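import Groth.Agent.KosEuler.Euler
import Mathlib.RingTheory.KrullDimension.Regular
import Mathlib.RingTheory.Ideal.AssociatedPrime.Finiteness
import Mathlib.RingTheory.KrullDimension.NonZeroDivisors
import Mathlib.RingTheory.Localization.FractionRing
import Mathlib.RingTheory.Flat.Basic
import Mathlib.RingTheory.TensorProduct.Finite

/-!
# The Koszul Euler characteristic and the dimension
-/

universe u
attribute [local instance] HasDerivedCategory.standard
open CategoryTheory Limits IsLocalRing
open scoped Pointwise

namespace Groth.Agent.KosEuler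

variable {A : Type u} [CommRing A]

theorem supportDim_le_max {M₁ M₂ M₃ : Type u} [AddCommGroup M₁] [Module A M₁] [AddCommGroup M₂]
    [Module A M₂] [AddCommGroup M₃] [Module A M₃] {f : M₁ →ₗ[A] M₂} {g : M₂ →ₗ[A] M₃}
    (hf : Function.Injective f) (hg : Function.Surjective g) (hfg : Function.Exact f g) :
    Module.supportDim A M₂ ≤ max (Module.supportDim A M₁) (Module.supportDim A M₃) := by
  have hs := Module.support_of_exact hfg hf hg
  refine iSup_le fun q => ?_
  rcases (hs ▸ q.head.2 : q.head.1 ∈ Module.support A M₁ ∪ Module.support A M₃) with h | h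
  · refine le_max_of_le_left (le_of_eq_of_le ?_ (Order.LTSeries.length_le_krullDim
      (LTSeries.mk q.length (fun i => (⟨(q i).1, Module.mem_support_mono (q.head_le i) h⟩ :
        Module.support A M₁)) (fun i j hij => q.strictMono hij))))
    rfl
  · refine le_max_of_le_right (le_of_eq_of_le ?_ (Order.LTSeries.length_le_krullDim
      (LTSeries.mk q.length (fun i => (⟨(q i).1, Module.mem_support_mono (q.head_le i) h⟩ :
        Module.support A M₃)) (fun i j hij => q.strictMono hij))))
    rfl

theorem withBot_add_one_lt {a : WithBot ℕ∞} {n : ℕ} (h : a + 1 < ((n + 1 : ℕ) : WithBot ℕ∞)) :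
    a < (n : WithBot ℕ∞) := by
  induction a using WithBot.recBotCoe with
  | bot => exact WithBot.bot_lt_coe _
  | coe a =>
    induction a using ENat.recTopCoe with
    | top => exact absurd h (not_lt_of_ge le_top)
    | coe a =>
      change ((a + 1 : ℕ) : WithBot ℕ∞) < _ at h
      change ((a : ℕ) : WithBot ℕ∞) < _
      rw [Nat.cast_lt] at h ⊢
      omega

theorem withBot_lt_of_add_one_le {a : WithBot ℕ∞} {n : ℕ} (h : a + 1 ≤ (n : WithBot ℕ∞)) :
    a < (n : WithBot ℕ∞) := by
  induction a using WithBot.recBotCoe with
  | bot => exact WithBot.bot_lt_coe _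
  | coe a =>
    induction a using ENat.recTopCoe with
    | top => exact absurd h (not_le_of_gt (WithBot.coe_lt_coe.2 (ENat.coe_lt_top n)))
    | coe a =>
      change ((a + 1 : ℕ) : WithBot ℕ∞) ≤ _ at h
      change ((a : ℕ) : WithBot ℕ∞) < _
      rw [Nat.cast_le] at h
      rw [Nat.cast_lt]
      omega

theorem withBot_add_one_eq {a : WithBot ℕ∞} {n : ℕ} (h : a + 1 = ((n + 1 : ℕ) : WithBot ℕ∞)) :
    a = (n : WithBot ℕ∞) := by
  induction a using WithBot.recBotCoe with
  | bot => exact absurd h (WithBot.bot_ne_coe (a := ((n + 1 : ℕ) : ℕ∞)))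
  | coe a =>
    induction a using ENat.recTopCoe with
    | top => exact absurd h (by rintro ⟨⟩)
    | coe a =>
      change ((a + 1 : ℕ) : WithBot ℕ∞) = _ at h
      change ((a : ℕ) : WithBot ℕ∞) = _
      rw [Nat.cast_inj] at h ⊢
      omega

variable [IsNoetherianRing A] [IsLocalRing A]

theorem isSMulRegular_of_equiv_quotient {N : Type u} [AddCommGroup N] [Module A N] {p : Ideal A}
    [p.IsPrime] (e : N ≃ₗ[A] A ⧸ p) {x : A} (hx : x ∉ p) : IsSMulRegular N x := by
  intro a b h
  apply e.injective
  have h' : x • e a = x • e b := by rw [← map_smul, ← map_smul]; exact congrArg e h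
  obtain ⟨a', ha'⟩ := Ideal.Quotient.mk_surjective (e a)
  obtain ⟨b', hb'⟩ := Ideal.Quotient.mk_surjective (e b)
  rw [← ha', ← hb'] at h' ⊢
  have h'' : x * a' - x * b' ∈ p := Ideal.Quotient.eq.mp h'
  rw [← mul_sub] at h''
  exact Ideal.Quotient.eq.mpr ((Ideal.IsPrime.mem_or_mem ‹_› h'').resolve_left hx)

theorem χ_dim : ∀ (d : ℕ) (l : List A), l.length = d → (∀ a ∈ l, a ∈ maximalIdeal A) →
    ∀ (M : Type u) [AddCommGroup M] [Module A M] [Module.Finite A M], Prim l M →
      (Module.supportDim A M < d → χ l M = 0) ∧ (Module.supportDim A M = d → 0 < χ l M) := by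
  intro d
  induction d using Nat.strong_induction_on with
  | h d ih =>
    intro l hl hm M _ _ hMf
    induction hMf using IsNoetherianRing.induction_on_isQuotientEquivQuotientPrime A with
    | subsingleton N =>
      intro _
      refine ⟨fun _ => χ_of_subsingleton l N, fun h => ?_⟩
      rw [Module.supportDim_eq_bot_of_subsingleton] at h
      exact absurd h (WithBot.bot_ne_coe)
    | exact N₁ N₂ N₃ f g hf hg hfg h₁ h₃ =>
      intro hP
      have hP₁ := hP.of_injective f hf
      have hP₃ := hP.of_surjective g hg
      have d₁ := Module.supportDim_le_of_injective f hf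
      have d₃ := Module.supportDim_le_of_surjective g hg
      have hmax := supportDim_le_max hf hg hfg
      rw [χ_add hf hg hfg hP₁.length_ne_top hP.length_ne_top hP₃.length_ne_top]
      refine ⟨fun h => by rw [(h₁ hP₁).1 (d₁.trans_lt h), (h₃ hP₃).1 (d₃.trans_lt h), add_zero],
        fun h => ?_⟩
      have nn₁ : 0 ≤ χ l N₁ := by
        rcases (d₁.trans h.le).lt_or_eq with h' | h'
        · exact ((h₁ hP₁).1 h').ge
        · exact ((h₁ hP₁).2 h').le
      have nn₃ : 0 ≤ χ l N₃ := by
        rcases (d₃.trans h.le).lt_or_eq with h' | h'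
        · exact ((h₃ hP₃).1 h').ge
        · exact ((h₃ hP₃).2 h').le
      rcases le_max_iff.1 hmax with h' | h'
      · exact add_pos_of_pos_of_nonneg ((h₁ hP₁).2 ((le_antisymm d₁ h').trans h)) nn₃
      · exact add_pos_of_nonneg_of_pos nn₁ ((h₃ hP₃).2 ((le_antisymm d₃ h').trans h))
    | quotient N p e =>
      intro hP
      by_cases hall : ∀ a ∈ l, a ∈ p.1
      · have hpm : p.1 = maximalIdeal A := by
          refine le_antisymm (IsLocalRing.le_maximalIdeal p.2.ne_top) (hP.trans ?_)
          rw [LinearEquiv.annihilator_eq e, Ideal.annihilator_quotient]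
          exact p.2.radical_le_iff.2 (sup_le (Ideal.span_le.2 hall) le_rfl)
        have hmax : p.1.IsMaximal := hpm ▸ inferInstance
        have hdim : Module.supportDim A N = 0 := by
          rw [Module.supportDim_eq_of_equiv e, Module.supportDim_quotient_eq_ringKrullDim]
          exact ringKrullDim_eq_zero_of_isField
            ((Ideal.Quotient.maximal_ideal_iff_isField_quotient _).1 hmax)
        have : IsSimpleModule A (A ⧸ p.1) := by
          rw [isSimpleModule_iff_isCoatom, ← Ideal.isMaximal_def]; exact hmax
        cases l with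
        | nil =>
          subst hl
          refine ⟨fun h => absurd h (by rw [hdim]; simp), fun _ => ?_⟩
          rw [χ_nil, LenLib.lenZ, e.length_eq, Module.length_eq_one]
          simp
        | cons x l =>
          have hx : ∀ m : N, x • m = 0 := fun m => e.injective (by
            obtain ⟨b, hb⟩ := Ideal.Quotient.mk_surjective (e m)
            rw [map_smul, map_zero, ← hb]
            exact Ideal.Quotient.eq_zero_iff_mem.2 (p.1.mul_mem_right b (hall x (by simp))))
          refine ⟨fun _ => χ_cons_of_smul_eq_zero hx (fun i => ?_), fun h => ?_⟩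
          · exact (hP.cons_drop le_rfl (Ideal.le_radical (Ideal.mem_sup_right
              (Module.mem_annihilator.2 hx)))).length_ne_top i
          · rw [hdim, ← hl] at h
            exact absurd h (by
              intro h'
              have : (0 : ℕ) = (x :: l).length := by exact_mod_cast h'
              simp at this)
      · push Not at hall
        obtain ⟨x, hxl, hxp⟩ := hall
        obtain ⟨l', hl'⟩ : ∃ l', List.Perm l (x :: l') := by
          obtain ⟨s, t, rfl⟩ := List.append_of_mem hxl
          exact ⟨s ++ t, List.perm_middle⟩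
        have hlen : l'.length + 1 = d := by rw [← hl, hl'.length_eq]; rfl
        subst hlen
        have hreg := isSMulRegular_of_equiv_quotient (p := p.1) e hxp
        have hxm := hm x hxl
        have hdim := Module.supportDim_quotSMulTop_succ_eq_supportDim hreg hxm
        rw [χ_perm hl', χ_cons_of_isSMulRegular hreg l', ← hdim]
        obtain ⟨ih₁, ih₂⟩ := ih l'.length (by omega) l' rfl
          (fun a ha => hm a (hl'.mem_iff.2 (List.mem_cons_of_mem _ ha))) (QuotSMulTop x N)
          (hP.perm hl').quotSMulTop
        exact ⟨fun h => ih₁ (withBot_add_one_lt h), fun h => ih₂ (withBot_add_one_eq h)⟩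

open TensorProduct in
theorem χ_eq_rank_mul [IsDomain A] (d : ℕ) (hd : ringKrullDim A = d) (l : List A) (hl : l.length = d)
    (hm : ∀ a ∈ l, a ∈ maximalIdeal A) (hA : Prim l A) (M : Type u) [AddCommGroup M] [Module A M]
    [hMf : Module.Finite A M] :
    χ l M = (Module.finrank (FractionRing A) (FractionRing A ⊗[A] M) : ℤ) * χ l A := by
  have hprim : ∀ (N : Type u) [AddCommGroup N] [Module A N], Prim l N := fun N _ _ =>
    hA.mono (by rw [Module.annihilator_eq_bot.mpr ((faithfulSMul_iff_algebraMap_injective A A).mpr
      fun {a b} h => h)]; exact bot_le)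
  induction hMf using IsNoetherianRing.induction_on_isQuotientEquivQuotientPrime A with
  | subsingleton N => rw [χ_of_subsingleton, Module.finrank_zero_of_subsingleton]; simp
  | exact N₁ N₂ N₃ f g hf hg hfg h₁ h₃ =>
    rw [χ_add hf hg hfg (hprim N₁).length_ne_top (hprim N₂).length_ne_top (hprim N₃).length_ne_top,
      h₁, h₃]
    have hex : Function.Exact (f.baseChange (FractionRing A)) (g.baseChange (FractionRing A)) :=
      Module.Flat.lTensor_exact (FractionRing A) hfg
    have hi : Function.Injective (f.baseChange (FractionRing A)) :=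
      Module.Flat.lTensor_preserves_injective_linearMap f hf
    have hs : Function.Surjective (g.baseChange (FractionRing A)) := LinearMap.lTensor_surjective _ hg
    have e := LinearMap.finrank_range_add_finrank_ker (g.baseChange (FractionRing A))
    rw [hex.linearMap_ker_eq, LinearMap.finrank_range_of_inj hi, LinearMap.range_eq_top.2 hs,
      finrank_top] at e
    rw [← e]
    push_cast
    ring
  | quotient N p e =>
    by_cases hp : p.1 = ⊥
    · let e' : N ≃ₗ[A] A := e.trans ((Submodule.quotEquivOfEq _ _ hp).trans (Submodule.quotEquivOfEqBot _ rfl))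
      rw [χ_congr l e', (LinearEquiv.baseChange A (FractionRing A) N A e').finrank_eq,
        (AlgebraTensorModule.rid A (FractionRing A) (FractionRing A)).finrank_eq, Module.finrank_self]
      simp
    · obtain ⟨r, hr, hr0⟩ := Submodule.exists_mem_ne_zero_of_ne_bot hp
      have hdim : Module.supportDim A N < d := by
        rw [Module.supportDim_eq_of_equiv e, Module.supportDim_quotient_eq_ringKrullDim]
        have h1 := ringKrullDim_quotient_succ_le_of_nonZeroDivisor (mem_nonZeroDivisors_of_ne_zero hr0)
        have h2 : ringKrullDim (A ⧸ p.1) ≤ ringKrullDim (A ⧸ Ideal.span {r}) :=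
          ringKrullDim_le_of_surjective
            (Ideal.Quotient.factor ((Ideal.span_singleton_le_iff_mem _).2 hr))
            (Ideal.Quotient.factor_surjective _)
        rw [hd] at h1
        have h3 : ringKrullDim (A ⧸ p.1) + 1 ≤ d := (add_le_add h2 le_rfl).trans h1
        exact withBot_lt_of_add_one_le h3
      have htens : Subsingleton (FractionRing A ⊗[A] N) := by
        refine subsingleton_of_forall_eq 0 fun z => ?_
        induction z using TensorProduct.induction_on with
        | zero => rfl
        | add a b ha hb => rw [ha, hb, add_zero]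
        | tmul q n =>
          have hn : r • n = 0 := e.injective (by
            obtain ⟨b, hb⟩ := Ideal.Quotient.mk_surjective (e n)
            rw [map_smul, map_zero, ← hb]
            exact Ideal.Quotient.eq_zero_iff_mem.2 (p.1.mul_mem_right b hr))
          have hq : q = r • (q / algebraMap A (FractionRing A) r) := by
            rw [Algebra.smul_def, mul_div_cancel₀]
            exact (map_ne_zero_iff _ (IsFractionRing.injective A (FractionRing A))).2 hr0
          rw [hq, TensorProduct.smul_tmul, hn, TensorProduct.tmul_zero]
      rw [(χ_dim d l hl hm N (hprim N)).1 hdim, Module.finrank_zero_of_subsingleton]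
      simp

end Groth.Agent.KosEuler
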