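import Groth.Agent.KosEuler.Euler
import Mathlib.RingTheory.KrullDimension.Regular

/-!
# Growth of the lengths of the Koszul homology of powers
-/

universe u
attribute [local instance] HasDerivedCategory.standard
open CategoryTheory Limits IsLocalRing
open scoped Pointwise

namespace Groth.Agent.KosEuler

variable {A : Type u} [CommRing A]

/-- The sequence of `n`th powers. -/
abbrev pw (n : ℕ) (l : List A) : List A := l.map (· ^ n)

theorem length_H_of_subsingleton (l : List A) (M : Type u) [AddCommGroup M] [Module A M]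
    [Subsingleton M] (i : ℤ) : Module.length A (H l M i) = 0 := by
  refine Module.length_eq_zero_iff.2 (subsingleton_of_forall_eq 0 fun z => ?_)
  have := smul_H_of_smul_module (a := (1 : A)) (M := M) (fun m => Subsingleton.elim _ _) l i z
  rwa [one_smul] at this

theorem length_H_quot_pow_le {x : A} {N : Type u} [AddCommGroup N] [Module A N]
    (hx : IsSMulRegular N x) (L : List A) (i : ℤ) :
    ∀ n : ℕ, Module.length A (H L (QuotSMulTop (x ^ n) N) i) ≤
      (n : ℕ∞) * Module.length A (H L (QuotSMulTop x N) i)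
  | 0 => by
    have : Subsingleton (QuotSMulTop (x ^ 0) N) := by
      rw [Submodule.Quotient.subsingleton_iff, pow_zero, one_smul]
    rw [length_H_of_subsingleton]
    exact zero_le
  | n + 1 => by
    let f : QuotSMulTop (x ^ n) N →ₗ[A] QuotSMulTop (x ^ (n + 1)) N :=
      Submodule.mapQ _ _ (mx x N) (fun a ha => by
        obtain ⟨b, -, rfl⟩ := Submodule.mem_smul_pointwise_iff_exists _ _ _ |>.1 ha
        exact Submodule.mem_smul_pointwise_iff_exists _ _ _ |>.2 ⟨b, trivial, by
          simp [mx, pow_succ', mul_smul, smul_comm x]⟩)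
    let g : QuotSMulTop (x ^ (n + 1)) N →ₗ[A] QuotSMulTop x N :=
      Submodule.factor (fun a ha => by
        obtain ⟨b, -, rfl⟩ := Submodule.mem_smul_pointwise_iff_exists _ _ _ |>.1 ha
        exact Submodule.mem_smul_pointwise_iff_exists _ _ _ |>.2
          ⟨x ^ n • b, trivial, by rw [pow_succ', mul_smul]⟩)
    have hf : Function.Injective f := by
      rw [← LinearMap.ker_eq_bot, LinearMap.ker_eq_bot']
      intro q hq
      obtain ⟨a, rfl⟩ := Submodule.mkQ_surjective _ q
      obtain ⟨b, -, hb⟩ := (Submodule.mem_smul_pointwise_iff_exists _ _ _).1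
        ((Submodule.Quotient.mk_eq_zero _).1 hq)
      refine (Submodule.Quotient.mk_eq_zero _).2
        ((Submodule.mem_smul_pointwise_iff_exists _ _ _).2 ⟨b, trivial, hx ?_⟩)
      change x • (x ^ n • b) = x • a
      rw [← mul_smul, ← pow_succ', hb]
      rfl
    have hg : Function.Surjective g := Submodule.factor_surjective _
    have hfg : Function.Exact f g := by
      intro q
      obtain ⟨a, rfl⟩ := Submodule.mkQ_surjective _ q
      constructor
      · intro h
        obtain ⟨b, -, hb⟩ := (Submodule.mem_smul_pointwise_iff_exists _ _ _).1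
          ((Submodule.Quotient.mk_eq_zero _).1 h)
        exact ⟨Submodule.Quotient.mk b, congrArg Submodule.Quotient.mk hb⟩
      · rintro ⟨p, hp⟩
        obtain ⟨b, rfl⟩ := Submodule.mkQ_surjective _ p
        rw [← hp]
        exact (Submodule.Quotient.mk_eq_zero _).2
          ((Submodule.mem_smul_pointwise_iff_exists _ _ _).2 ⟨b, trivial, rfl⟩)
    refine (length_H_le hf hg hfg L i).trans ?_
    rw [Nat.cast_succ, add_mul, one_mul]
    exact add_le_add (length_H_quot_pow_le hx L i n) le_rfl

theorem length_H_cons_le (x : A) (L : List A) (M : Type u) [AddCommGroup M] [Module A M] (i : ℤ) :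
    Module.length A (H (x :: L) M i) ≤ Module.length A (H L M i) + Module.length A (H L M (i + 1)) := by
  rw [length_cons x L M i (i + 1) rfl]
  exact add_le_add (Module.length_le_of_surjective _ (Submodule.mkQ_surjective _))
    (Module.length_le_of_injective _ (Submodule.injective_subtype _))

section torsion

variable [IsNoetherianRing A] (x : A) (M : Type u) [AddCommGroup M] [Module A M] [Module.Finite A M]

theorem exists_stable : ∃ n : ℕ, ∀ m : M, x ^ (n + 1) • m = 0 → x ^ n • m = 0 := by
  let g : ℕ →o Submodule A M := ⟨fun n => LinearMap.ker (mx (x ^ n) M), fun a b hab m hm => by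
    have hm' : x ^ a • m = 0 := hm
    change x ^ b • m = 0
    rw [← Nat.sub_add_cancel hab, pow_add, mul_smul, hm', smul_zero]⟩
  have : IsNoetherian A M := inferInstance
  obtain ⟨n, hn⟩ := monotone_stabilizes_iff_noetherian.2 this g
  refine ⟨n, fun m hm => ?_⟩
  have : m ∈ g (n + 1) := hm
  rwa [← hn (n + 1) n.le_succ] at this

/-- An exponent killing the `x`-torsion. -/
noncomputable def texp : ℕ := (exists_stable x M).choose

/-- The `x`-torsion. -/
noncomputable abbrev tors : Submodule A M := LinearMap.ker (mx (x ^ texp x M) M)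

/-- The quotient by the `x`-torsion, modulo `x`. -/
noncomputable abbrev topQuot : Type u := QuotSMulTop x (M ⧸ tors x M)

theorem isSMulRegular_quot : IsSMulRegular (M ⧸ tors x M) x := by
  rw [isSMulRegular_iff_right_eq_zero_of_smul]
  intro q hq
  obtain ⟨m, rfl⟩ := Submodule.mkQ_surjective _ q
  have h : x ^ texp x M • (x • m) = 0 := (Submodule.Quotient.mk_eq_zero _).1 hq
  rw [← mul_smul, ← pow_succ] at h
  exact (Submodule.Quotient.mk_eq_zero _).2 ((exists_stable x M).choose_spec m h)

theorem length_step (l : List A) (n : ℕ) (j : ℤ) :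
    Module.length A (H (pw n (x :: l)) M j) ≤
      Module.length A (H (pw n l) (tors x M) j) + Module.length A (H (pw n l) (tors x M) (j + 1)) +
        (n : ℕ∞) * Module.length A (H (pw n l) (topQuot x M) j) := by
  refine (length_H_le (Submodule.injective_subtype (tors x M)) (Submodule.mkQ_surjective _)
    (LinearMap.exact_subtype_mkQ _) _ j).trans (add_le_add (length_H_cons_le _ _ _ j) ?_)
  change Module.length A (H (x ^ n :: pw n l) _ j) ≤ _
  rw [length_H_of_isSMulRegular ((isSMulRegular_quot x M).pow n)]
  exact length_H_quot_pow_le (isSMulRegular_quot x M) _ j n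

variable [IsLocalRing A] {x M}

theorem Prim.tors {l : List A} (h : Prim (x :: l) M) : Prim l (KosEuler.tors x M) :=
  h.cons_drop ((KosEuler.tors x M).subtype.annihilator_le_of_injective (Submodule.injective_subtype _))
    ⟨texp x M, Ideal.mem_sup_right (Module.mem_annihilator.2 fun z => Subtype.ext z.2)⟩

theorem Prim.topQuot {l : List A} (h : Prim (x :: l) M) : Prim l (KosEuler.topQuot x M) :=
  (h.of_surjective _ (Submodule.mkQ_surjective _)).quotSMulTop

end torsion

variable [IsNoetherianRing A] [IsLocalRing A]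

theorem exists_le_poly : ∀ (l : List A) (M : Type u) [AddCommGroup M] [Module A M] [Module.Finite A M],
    Prim l M → ∀ j : ℤ, ∃ c : ℕ, ∀ n : ℕ, 0 < n →
      Module.length A (H (pw n l) M j) ≤ ((c * n ^ ((l.length : ℤ) + j).toNat : ℕ) : ℕ∞)
  | [], M, _, _, _, h, j => by
    obtain ⟨c, hc⟩ := WithTop.ne_top_iff_exists.1 (h.length_ne_top j)
    refine ⟨c, fun n hn => (le_of_eq hc.symm).trans ?_⟩
    exact Nat.cast_le.2 (Nat.le_mul_of_pos_right _ (pow_pos hn _))
  | x :: l, M, _, _, _, h, j => by
    obtain ⟨c₁, h₁⟩ := exists_le_poly l (tors x M) h.tors j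
    obtain ⟨c₂, h₂⟩ := exists_le_poly l (tors x M) h.tors (j + 1)
    obtain ⟨c₃, h₃⟩ := exists_le_poly l (topQuot x M) h.topQuot j
    refine ⟨c₁ + c₂ + c₃, fun n hn => (length_step x M l n j).trans ?_⟩
    simp only [List.length_cons, Nat.cast_succ]
    rw [add_mul, add_mul, Nat.cast_add, Nat.cast_add]
    refine add_le_add (add_le_add ?_ ?_) ?_
    · exact (h₁ n hn).trans (Nat.cast_le.2 (Nat.mul_le_mul_left _ (Nat.pow_le_pow_right hn (by omega))))
    · exact (h₂ n hn).trans (le_of_eq (by congr 4; omega))
    · rcases lt_or_ge j (-(l.length : ℤ)) with hj | hj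
      · rw [length_H_eq_zero (pw n l) _ j (Or.inr (by simpa using hj)), mul_zero]
        exact zero_le
      · refine (mul_le_mul_right (h₃ n hn) _).trans (le_of_eq ?_)
        rw [← Nat.cast_mul, show ((l.length : ℤ) + 1 + j).toNat = ((l.length : ℤ) + j).toNat + 1 by omega,
          pow_succ]
        congr 1
        ring

theorem withBot_le_of_add_one_le {a : WithBot ℕ∞} {n : ℕ} (h : a + 1 ≤ ((n + 1 : ℕ) : WithBot ℕ∞)) :
    a ≤ (n : WithBot ℕ∞) := by
  induction a using WithBot.recBotCoe with
  | bot => exact bot_le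
  | coe a =>
    induction a using ENat.recTopCoe with
    | top => exact absurd h (not_le_of_gt (WithBot.coe_lt_coe.2 (ENat.coe_lt_top (n + 1))))
    | coe a =>
      change ((a + 1 : ℕ) : WithBot ℕ∞) ≤ _ at h
      change ((a : ℕ) : WithBot ℕ∞) ≤ _
      rw [Nat.cast_le] at h ⊢
      omega

theorem exists_le_dim : ∀ (l : List A), (∀ a ∈ l, a ∈ maximalIdeal A) →
    ∀ (M : Type u) [AddCommGroup M] [Module A M] [Module.Finite A M] (d : ℕ),
    Module.supportDim A M ≤ d → Prim l M → ∀ j : ℤ, ∃ c : ℕ, ∀ n : ℕ, 0 < n →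
      Module.length A (H (pw n l) M j) ≤ ((c * n ^ d : ℕ) : ℕ∞)
  | [], _, M, _, _, _, d, _, h, j => by
    obtain ⟨c, hc⟩ := WithTop.ne_top_iff_exists.1 (h.length_ne_top j)
    refine ⟨c, fun n hn => (le_of_eq hc.symm).trans ?_⟩
    exact Nat.cast_le.2 (Nat.le_mul_of_pos_right _ (pow_pos hn _))
  | x :: l, hm, M, _, _, _, d, hd, h, j => by
    have hml : ∀ a ∈ l, a ∈ maximalIdeal A := fun a ha => hm a (List.mem_cons_of_mem _ ha)
    have hdT := (Module.supportDim_le_of_injective _ (Submodule.injective_subtype (tors x M))).trans hd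
    obtain ⟨c₁, h₁⟩ := exists_le_dim l hml (tors x M) d hdT h.tors j
    obtain ⟨c₂, h₂⟩ := exists_le_dim l hml (tors x M) d hdT h.tors (j + 1)
    obtain ⟨c₃, h₃⟩ : ∃ c : ℕ, ∀ n : ℕ, 0 < n →
        (n : ℕ∞) * Module.length A (H (pw n l) (topQuot x M) j) ≤ ((c * n ^ d : ℕ) : ℕ∞) := by
      rcases subsingleton_or_nontrivial (topQuot x M) with hs | hs
      · exact ⟨0, fun n _ => by rw [length_H_of_subsingleton]; simp⟩
      have hq : Module.supportDim A (topQuot x M) + 1 ≤ d :=
        (Module.supportDim_quotSMulTop_succ_eq_supportDim (isSMulRegular_quot x M)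
          (hm x (by simp))).le.trans ((Module.supportDim_le_of_surjective _
            (Submodule.mkQ_surjective _)).trans hd)
      obtain ⟨e, rfl⟩ : ∃ e, d = e + 1 := by
        refine Nat.exists_eq_succ_of_ne_zero fun h0 => ?_
        subst h0
        have := Module.supportDim_ne_bot_of_nontrivial A (topQuot x M)
        revert this hq
        generalize Module.supportDim A (topQuot x M) = a
        induction a using WithBot.recBotCoe with
        | bot => simp
        | coe a =>
          intro hq _
          have : ((a + 1 : ℕ∞) : WithBot ℕ∞) ≤ ((0 : ℕ∞) : WithBot ℕ∞) := hq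
          rw [WithBot.coe_le_coe] at this
          simp at this
      obtain ⟨c, hc⟩ := exists_le_dim l hml (topQuot x M) e (withBot_le_of_add_one_le hq) h.topQuot j
      refine ⟨c, fun n hn => (mul_le_mul_right (hc n hn) _).trans (le_of_eq ?_)⟩
      rw [← Nat.cast_mul, pow_succ]
      congr 1
      ring
    refine ⟨c₁ + c₂ + c₃, fun n hn => (length_step x M l n j).trans ?_⟩
    rw [add_mul, add_mul, Nat.cast_add, Nat.cast_add]
    exact add_le_add (add_le_add (h₁ n hn) (h₂ n hn)) (h₃ n hn)

end Groth.Agent.KosEuler
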