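import Groth.Agent.KosEuler.FiltrEuler
import Groth.Agent.KosEuler.Bounds
import Mathlib.Algebra.Group.ForwardDiff
import Mathlib.Analysis.SpecialFunctions.Choose
import Mathlib.Analysis.SpecificLimits.Basic

/-!
# Samuel multiplicity and Lech's formula through the Koszul Euler characteristic
-/

universe u
attribute [local instance] HasDerivedCategory.standard
open CategoryTheory Limits CochainComplex HomComplex IsLocalRing
open scoped Pointwise
open Filter Topology

namespace Groth.Agent.KosEuler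

open LenLib (lenZ)

variable {A : Type u} [CommRing A]

theorem bd_eq_fwdDiff (s : ℕ → ℤ) : ∀ (k n : ℕ), bd k s (n + k) = ((fwdDiff (1 : ℕ))^[k] s) n
  | 0, n => rfl
  | k + 1, n => by
    rw [Function.iterate_succ_apply', fwdDiff, bd, ← bd_eq_fwdDiff s k, ← bd_eq_fwdDiff s k,
      show n + (k + 1) - 1 = n + k by omega, show n + 1 + k = n + (k + 1) by omega]

theorem tendsto_choose_div (k d : ℕ) (hk : k ≤ d) :
    Tendsto (fun m : ℕ => (m.choose k : ℝ) / (m : ℝ) ^ d) atTop
      (𝓝 (if k = d then 1 / (d.factorial : ℝ) else 0)) := by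
  have h : Tendsto (fun m : ℕ => (m.choose k : ℝ) / ((m : ℝ) ^ k / (k.factorial : ℝ))) atTop (𝓝 1) := by
    refine (Asymptotics.isEquivalent_iff_tendsto_one ?_).1 (isEquivalent_choose k)
    filter_upwards [eventually_gt_atTop 0] with m hm
    positivity
  have h' : Tendsto (fun m : ℕ => (1 : ℝ) / (m : ℝ) ^ (d - k)) atTop
      (𝓝 (if k = d then 1 else 0)) := by
    by_cases e : k = d
    · simp [e]
    · rw [if_neg e]
      simp only [one_div]
      exact (tendsto_inv_atTop_zero.comp ((tendsto_pow_atTop (show d - k ≠ 0 by omega)).comp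
        tendsto_natCast_atTop_atTop))
  have := (h.mul h').div_const (k.factorial : ℝ)
  rw [one_mul] at this
  refine (tendsto_congr' ?_).1 (this.trans (le_of_eq ?_))
  · filter_upwards [eventually_gt_atTop 0] with m hm
    have hm' : (m : ℝ) ≠ 0 := by positivity
    have : (m : ℝ) ^ d = (m : ℝ) ^ k * (m : ℝ) ^ (d - k) := by rw [← pow_add]; congr 1; omega
    rw [this]
    field_simp
  · by_cases e : k = d
    · simp [e]
    · simp [e]

theorem tendsto_of_bd {s : ℕ → ℤ} {d N : ℕ} {c : ℤ} (h : ∀ n, N ≤ n → bd d s n = c) :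
    Tendsto (fun n : ℕ => (s n : ℝ) / (n : ℝ) ^ d) atTop (𝓝 ((c : ℝ) / (d.factorial : ℝ))) := by
  have hd : ∀ n, N ≤ n → ((fwdDiff (1 : ℕ))^[d] s) n = c := fun n hn => by
    rw [← bd_eq_fwdDiff]; exact h _ (by omega)
  have hz : ∀ j n, N ≤ n → ((fwdDiff (1 : ℕ))^[d + (j + 1)] s) n = 0 := by
    intro j
    induction j with
    | zero =>
      intro n hn
      rw [Function.iterate_succ_apply', fwdDiff, hd n hn, hd (n + 1) (by omega), sub_self]
    | succ j ih =>
      intro n hn
      rw [show d + (j + 1 + 1) = (d + (j + 1)) + 1 by omega, Function.iterate_succ_apply', fwdDiff,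
        ih n hn, ih (n + 1) (by omega), sub_self]
  have hs : ∀ m, d ≤ m → s (N + m) =
      ∑ k ∈ Finset.range (d + 1), (m.choose k : ℤ) * ((fwdDiff (1 : ℕ))^[k] s) N := by
    intro m hm
    have e := shift_eq_sum_fwdDiff_iter (1 : ℕ) s m N
    rw [nsmul_one, Nat.cast_id] at e
    rw [e]
    rw [← Finset.sum_subset (s₁ := Finset.range (d + 1)) (Finset.range_subset_range.2 (by omega))]
    · exact Finset.sum_congr rfl fun k _ => nsmul_eq_mul _ _
    · intro k _ hk
      rw [Finset.mem_range] at hk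
      obtain ⟨j, rfl⟩ : ∃ j, k = d + (j + 1) := ⟨k - d - 1, by omega⟩
      rw [hz j N le_rfl, smul_zero]
  have h1 : Tendsto (fun m : ℕ => (s (N + m) : ℝ) / (m : ℝ) ^ d) atTop
      (𝓝 ((c : ℝ) / (d.factorial : ℝ))) := by
    have h2 : Tendsto (fun m : ℕ => ∑ k ∈ Finset.range (d + 1),
        (((fwdDiff (1 : ℕ))^[k] s) N : ℝ) * ((m.choose k : ℝ) / (m : ℝ) ^ d)) atTop
        (𝓝 (∑ k ∈ Finset.range (d + 1),
          (((fwdDiff (1 : ℕ))^[k] s) N : ℝ) * (if k = d then 1 / (d.factorial : ℝ) else 0))) :=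
      tendsto_finsetSum _ fun k hk => (tendsto_choose_div k d (by
        rw [Finset.mem_range] at hk; omega)).const_mul _
    rw [Finset.sum_eq_single d (fun k _ hk => by simp [hk]) (fun h => by simp at h), if_pos rfl,
      mul_one_div, hd N le_rfl] at h2
    refine (tendsto_congr' ?_).1 h2
    filter_upwards [eventually_ge_atTop d] with m hm
    rw [hs m hm]
    push_cast
    rw [Finset.sum_div]
    exact Finset.sum_congr rfl fun k _ => by ring
  rw [← tendsto_add_atTop_iff_nat N]
  have h3 : Tendsto (fun m : ℕ => ((m : ℝ) / ((m : ℝ) + N)) ^ d) atTop (𝓝 1) := by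
    simpa using (tendsto_natCast_div_add_atTop (N : ℝ)).pow d
  have h4 := h1.mul h3
  rw [mul_one] at h4
  refine (tendsto_congr' ?_).1 h4
  filter_upwards [eventually_gt_atTop 0] with m hm
  have hm' : (m : ℝ) ≠ 0 := by positivity
  rw [div_pow, add_comm N m, Nat.cast_add]
  field_simp

variable {M : Type u} [AddCommGroup M] [Module A M]

theorem exists_H0 : ∀ l : List A, ∃ f : M →ₗ[A] H l M 0,
    Function.Surjective f ∧ LinearMap.ker f = Ideal.ofList l • ⊤
  | [] => ⟨(HomologicalComplex.singleObjHomologySelfIso (ComplexShape.up ℤ) 0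
      (ModuleCat.of A M)).toLinearEquiv.symm.toLinearMap, LinearEquiv.surjective _, by
      rw [LinearEquiv.ker, Ideal.ofList_nil, Submodule.bot_smul]⟩
  | x :: l => by
    obtain ⟨f, hf, hker⟩ := exists_H0 l
    obtain ⟨α, β, hα, hβ, hαβ⟩ := exists_cone_exact (K' := K l M) x 0 1 rfl
    have : Subsingleton (LinearMap.ker (mx x (H l M 1))) := subsingleton_of_forall_eq 0 fun z =>
      Subtype.ext (@Subsingleton.elim (H l M 1) (subsingleton_H l M 1 (Or.inl one_pos)) _ _)
    have hα' : Function.Surjective α := fun w => (hαβ w).1 (Subsingleton.elim _ _)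
    let e := LinearEquiv.ofBijective α ⟨hα, hα'⟩
    refine ⟨e.toLinearMap.comp ((LinearMap.range (mx x (H l M 0))).mkQ.comp f),
      e.surjective.comp ((Submodule.mkQ_surjective _).comp hf), ?_⟩
    refine (LinearEquiv.ker_comp e _).trans ?_
    rw [LinearMap.ker_comp, Submodule.ker_mkQ, Ideal.ofList_cons,
      Submodule.sup_smul, Submodule.ideal_span_singleton_smul, ← hker]
    ext m
    simp only [Submodule.mem_comap, LinearMap.mem_range, Submodule.mem_sup]
    constructor
    · rintro ⟨w, hw⟩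
      obtain ⟨u, rfl⟩ := hf w
      refine ⟨x • u, Submodule.smul_mem_pointwise_smul u x ⊤ trivial, m - x • u, ?_, by abel⟩
      rw [LinearMap.mem_ker, map_sub, map_smul, ← hw]
      exact sub_self _
    · rintro ⟨y, hy, z, hz, rfl⟩
      obtain ⟨u, -, rfl⟩ := (Submodule.mem_smul_pointwise_iff_exists _ _ _).1 hy
      refine ⟨f u, ?_⟩
      rw [map_add, LinearMap.mem_ker.1 hz, add_zero, map_smul]
      rfl

theorem length_H0 (l : List A) :
    Module.length A (H l M 0) = Module.length A (M ⧸ (Ideal.ofList l • ⊤ : Submodule A M)) := by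
  obtain ⟨f, hf, hker⟩ := exists_H0 (M := M) l
  exact ((Submodule.quotEquivOfEq _ _ hker.symm).trans (f.quotKerEquivOfSurjective hf)).length_eq.symm

section local_ring

variable [IsNoetherianRing A] [IsLocalRing A] [Module.Finite A M] {l : List A}

theorem Prim.length_quot_pow_ne_top (h : Prim l M) (n : ℕ) :
    Module.length A (M ⧸ (Ideal.ofList l ^ n • ⊤ : Submodule A M)) ≠ ⊤ := by
  refine Module.length_ne_top_iff.2 (isFiniteLength_of_radical (J := Ideal.ofList l ^ n ⊔
    Module.annihilator A M) (h.trans (Ideal.radical_le_radical_iff.2 (sup_le (fun r hr =>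
      ⟨n, Ideal.mem_sup_left (Ideal.pow_mem_pow hr n)⟩) (le_sup_right.trans Ideal.le_radical))))
    fun r hr z => ?_)
  obtain ⟨m, rfl⟩ := Submodule.mkQ_surjective _ z
  obtain ⟨b, hb, c, hc, rfl⟩ := Submodule.mem_sup.1 hr
  rw [← map_smul, add_smul, Module.mem_annihilator.1 hc, add_zero]
  exact (Submodule.Quotient.mk_eq_zero _).2 (Submodule.smul_mem_smul hb trivial)

/-- Samuel: `length(M/aⁿM)/n^d → χ/d!`. -/
theorem tendsto_samuel (h : Prim l M) :
    Tendsto (fun n : ℕ =>
      ((Module.length A (M ⧸ (Ideal.ofList l ^ n • ⊤ : Submodule A M))).toNat : ℝ) /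
        (n : ℝ) ^ l.length) atTop (𝓝 ((χ l M : ℝ) / (l.length.factorial : ℝ))) := by
  obtain ⟨N, hN⟩ := exists_bd_eq l h.length_quot_pow_ne_top
  refine (tendsto_congr fun n => ?_).1 (tendsto_of_bd hN)
  simp [lenZ]

theorem χ_pw (h : Prim l M) (n : ℕ) : χ (pw n l) M = (n : ℤ) ^ l.length * χ l M := by
  have := χ_powers M (l.map fun a => (a, n)) [] (by simpa [Function.comp_def] using h)
  simpa [Function.comp_def, List.map_const', List.prod_replicate] using this

/-- Lech: `length(M/(xⁿ)M)/n^d → χ`. -/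
theorem tendsto_lech (h : Prim l M) :
    Tendsto (fun n : ℕ =>
      ((Module.length A (M ⧸ (Ideal.ofList (pw n l) • ⊤ : Submodule A M))).toNat : ℝ) /
        (n : ℝ) ^ l.length) atTop (𝓝 (χ l M : ℝ)) := by
  let D := l.length
  let T := (Finset.Icc (-(D : ℤ)) 0).erase 0
  let g : ℤ → ℕ → ℝ := fun i n => ((Int.negOnePow i : ℤˣ) : ℤ) *
    ((lenZ A (H (pw n l) M i) : ℝ) / (n : ℝ) ^ D)
  have hg : ∀ i ∈ T, Tendsto (g i) atTop (𝓝 0) := by
    intro i hi
    obtain ⟨hi0, hi⟩ := Finset.mem_erase.1 hi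
    rw [Finset.mem_Icc] at hi
    obtain ⟨c, hc⟩ := exists_le_poly l M h i
    have h0 : Tendsto (fun n : ℕ => (lenZ A (H (pw n l) M i) : ℝ) / (n : ℝ) ^ D) atTop (𝓝 0) := by
      refine squeeze_zero' (Eventually.of_forall fun n => div_nonneg ?_ (by positivity)) ?_
        (tendsto_const_nhds.div_atTop tendsto_natCast_atTop_atTop : Tendsto (fun n : ℕ => (c : ℝ) / n)
          atTop (𝓝 0))
      · exact Int.cast_nonneg (Int.natCast_nonneg _)
      · filter_upwards [eventually_gt_atTop 0] with n hn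
        have h1 := ENat.toNat_le_toNat (hc n hn) (ENat.coe_ne_top _)
        rw [ENat.toNat_coe] at h1
        have h2 : (lenZ A (H (pw n l) M i) : ℝ) ≤ (c : ℝ) * (n : ℝ) ^ ((D : ℤ) + i).toNat := by
          unfold lenZ; exact_mod_cast h1
        have hn' : (0 : ℝ) < n := by exact_mod_cast hn
        have h3 : (n : ℝ) ^ ((D : ℤ) + i).toNat * n ≤ (n : ℝ) ^ D := by
          rw [← pow_succ]; exact pow_le_pow_right₀ (by exact_mod_cast hn) (by omega)
        rw [div_le_div_iff₀ (by positivity) hn']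
        calc (lenZ A (H (pw n l) M i) : ℝ) * n ≤ (c : ℝ) * (n : ℝ) ^ ((D : ℤ) + i).toNat * n :=
              mul_le_mul_of_nonneg_right h2 hn'.le
          _ ≤ (c : ℝ) * (n : ℝ) ^ D := by rw [mul_assoc]; gcongr
    simpa [g] using h0.const_mul (((Int.negOnePow i : ℤˣ) : ℤ) : ℝ)
  have h1 : Tendsto (fun n => (χ l M : ℝ) - ∑ i ∈ T, g i n) atTop (𝓝 (χ l M : ℝ)) := by
    simpa using (tendsto_finsetSum T hg).const_sub (χ l M : ℝ)
  refine (tendsto_congr' ?_).1 h1
  filter_upwards [eventually_gt_atTop 0] with n hn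
  have e := congrArg (fun z : ℤ => (z : ℝ)) (χ_pw h n)
  rw [χ_eq_sum (pw n l) M (a := -(D : ℤ)) (b := 0) (by simp [D]) le_rfl,
    ← Finset.add_sum_erase _ _ (Finset.mem_Icc.2 ⟨by omega, le_rfl⟩ : (0 : ℤ) ∈ Finset.Icc (-(D : ℤ)) 0)]
    at e
  simp only [Int.negOnePow_zero, Units.val_one, one_mul, Int.cast_add, Int.cast_sum, Int.cast_mul,
    Int.cast_pow, Int.cast_natCast] at e
  rw [show (lenZ A (H (pw n l) M 0) : ℝ) =
    ((Module.length A (M ⧸ (Ideal.ofList (pw n l) • ⊤ : Submodule A M))).toNat : ℝ) by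
      rw [← length_H0]; simp [lenZ]] at e
  have hn' : (n : ℝ) ≠ 0 := by exact_mod_cast hn.ne'
  simp only [g, mul_div_assoc']
  rw [← Finset.sum_div, eq_sub_of_add_eq e, sub_div, mul_div_cancel_left₀ _ (pow_ne_zero _ hn')]

end local_ring

end Groth.Agent.KosEuler
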