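import Groth.Agent.KoszulMul.CechRegular
import Groth.Agent.KoszulMul.Append
import Groth.Agent.S6292
import Groth.Agent.LenLib.Index
import Mathlib.RingTheory.Support
import Mathlib.RingTheory.Length

/-!
# Koszul homology of modules: long exact sequences and finiteness
-/

universe u
attribute [local instance] HasDerivedCategory.standard
open CategoryTheory Limits CochainComplex HomComplex IsLocalRing
open scoped Pointwise

namespace Groth.Agent.KosEuler

open KoszulMul.CechRegular (It)

variable {A : Type u} [CommRing A]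

/-- A module in degree zero. -/
noncomputable abbrev sg (M : Type u) [AddCommGroup M] [Module A M] : DRing.Cx A :=
  (singleFunctor (ModuleCat.{u} A) 0).obj (ModuleCat.of A M)

/-- The Koszul complex on a module. -/
noncomputable abbrev K (l : List A) (M : Type u) [AddCommGroup M] [Module A M] : DRing.Cx A :=
  It l (sg M)

/-- Koszul homology of a module, cohomologically indexed. -/
noncomputable abbrev H (l : List A) (M : Type u) [AddCommGroup M] [Module A M] (i : ℤ) :
    ModuleCat.{u} A :=
  (K l M).homology i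

/-- Multiplication as an endomorphism. -/
abbrev mx (x : A) (N : Type u) [AddCommGroup N] [Module A N] : N →ₗ[A] N := x • LinearMap.id

/-- Functoriality of iterated cones. -/
noncomputable def Itmap : ∀ (l : List A) {E E' : DRing.Cx A}, (E ⟶ E') → (It l E ⟶ It l E')
  | [], _, _, g => g
  | a :: l, _, _, g => mappingCone.map (a • 𝟙 _) (a • 𝟙 _) (Itmap l g) (Itmap l g) (by simp)

theorem cone_map_comp {P₁ P₂ P₃ : CochainComplex (ModuleCat.{u} A) ℤ} (φ₁ : P₁ ⟶ P₁) (φ₂ : P₂ ⟶ P₂)
    (φ₃ : P₃ ⟶ P₃) (g : P₁ ⟶ P₂) (h : P₂ ⟶ P₃) (c₁ : φ₁ ≫ g = g ≫ φ₂) (c₂ : φ₂ ≫ h = h ≫ φ₃)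
    (k : P₁ ⟶ P₃) (c₃ : φ₁ ≫ k = k ≫ φ₃) (w : g ≫ h = k) :
    mappingCone.map φ₁ φ₂ g g c₁ ≫ mappingCone.map φ₂ φ₃ h h c₂ = mappingCone.map φ₁ φ₃ k k c₃ := by
  subst w
  exact (mappingCone.map_comp ..).symm

theorem cone_map_smul_id {P : CochainComplex (ModuleCat.{u} A) ℤ} (a x : A) (k : P ⟶ P) (hk : k = x • 𝟙 P)
    (c : (a • 𝟙 P) ≫ k = k ≫ (a • 𝟙 P)) :
    mappingCone.map (a • 𝟙 P) (a • 𝟙 P) k k c = x • 𝟙 _ := by
  subst hk
  ext n : 1
  apply mappingCone.ext_from _ (n + 1) n rfl <;> simp [mappingCone.map]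

theorem Itmap_smul_id : ∀ (l : List A) (E : DRing.Cx A) (x : A),
    Itmap l (x • 𝟙 E) = x • 𝟙 (It l E)
  | [], _, _ => rfl
  | a :: l, E, x => cone_map_smul_id a x _ (Itmap_smul_id l E x) _

theorem Itmap_comp : ∀ (l : List A) {E E' E'' : DRing.Cx A} (g : E ⟶ E') (h : E' ⟶ E''),
    Itmap l (g ≫ h) = Itmap l g ≫ Itmap l h
  | [], _, _, _, _, _ => rfl
  | a :: l, _, _, _, g, h => (cone_map_comp _ _ _ _ _ _ _ _ _ (Itmap_comp l g h).symm).symm

theorem Itmap_zero (l : List A) (E E' : DRing.Cx A) : Itmap l (0 : E ⟶ E') = 0 := by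
  have h : Itmap l (0 : E ⟶ E') = Itmap l ((0 : A) • 𝟙 E) ≫ Itmap l (0 : E ⟶ E') := by
    rw [← Itmap_comp, comp_zero]
  rw [h, Itmap_smul_id, zero_smul, zero_comp]

/-- `It l` of a short complex. -/
noncomputable def ItS (l : List A) (S : ShortComplex (DRing.Cx A)) : ShortComplex (DRing.Cx A) :=
  ShortComplex.mk (Itmap l S.f) (Itmap l S.g) (by rw [← Itmap_comp, S.zero, Itmap_zero])

theorem shortExact_ItS : ∀ (l : List A) (S : ShortComplex (DRing.Cx A)), S.ShortExact →
    (ItS l S).ShortExact
  | [], S, hS => hS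
  | a :: l, S, hS => by
    have hk := fun k => (shortExact_ItS l S hS).map_of_exact
      (HomologicalComplex.eval (ModuleCat.{u} A) (ComplexShape.up ℤ) k)
    refine HomologicalComplex.shortExact_of_degreewise_shortExact _ (fun k => ?_)
    refine { exact := ?_, mono_f := ?_, epi_g := ?_ }
    · rw [ShortComplex.moduleCat_exact_iff]
      intro z hz
      refine KoszulCech.cone_map_exact _ _ (Itmap l S.f) (Itmap l S.f) (by simp) _ (Itmap l S.g)
        (Itmap l S.g) (by simp) ?_ ?_ k z hz
      · exact fun i x hx => (ShortComplex.moduleCat_exact_iff _).mp (hk i).exact x hx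
      · exact fun i x hx => (ShortComplex.moduleCat_exact_iff _).mp (hk i).exact x hx
    · exact (ModuleCat.mono_iff_injective _).2 (KoszulCech.cone_map_injective _ _ (Itmap l S.f)
        (Itmap l S.f) (by simp) (fun i => (hk i).moduleCat_injective_f)
        (fun i => (hk i).moduleCat_injective_f) k)
    · exact (ModuleCat.epi_iff_surjective _).2 (KoszulCech.cone_map_surjective _ _ (Itmap l S.g)
        (Itmap l S.g) (by simp) (fun i => (hk i).moduleCat_surjective_g)
        (fun i => (hk i).moduleCat_surjective_g) k)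

theorem sg_map_smul_id (x : A) (M : Type u) [AddCommGroup M] [Module A M] :
    (singleFunctor (ModuleCat.{u} A) 0).map (ModuleCat.ofHom (mx x M)) = x • 𝟙 (sg M) := by
  rw [show ModuleCat.ofHom (mx x M) = x • 𝟙 (ModuleCat.of A M) from rfl, Functor.map_smul]
  exact congrArg (x • ·) ((singleFunctor (ModuleCat.{u} A) 0).map_id _)

section LES

variable {K' : DRing.Cx A}

/-- The long exact sequence of a cone of a multiplication, cut in short ones. -/
theorem exists_cone_exact (x : A) (i j : ℤ) (hij : i + 1 = j) :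
    ∃ (α : ((K'.homology i) ⧸ LinearMap.range (mx x (K'.homology i))) →ₗ[A]
        (mappingCone (x • 𝟙 K')).homology i)
      (β : (mappingCone (x • 𝟙 K')).homology i →ₗ[A] LinearMap.ker (mx x (K'.homology j))),
      Function.Injective α ∧ Function.Surjective β ∧ Function.Exact α β := by
  have hT := DerivedCategory.mappingCone_triangle_distinguished (x • 𝟙 K')
  have h1 : ∀ k, HomologicalComplex.homologyMap (mappingCone.triangle (x • 𝟙 K')).mor₁ k = x • 𝟙 _ :=
    fun k => KosCone.Basic.homologyMap_smul_id x K' k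
  let ι : K'.homology i →ₗ[A] (mappingCone (x • 𝟙 K')).homology i :=
    (HomologicalComplex.homologyMap (mappingCone.inr (x • 𝟙 K')) i).hom
  let δ : (mappingCone (x • 𝟙 K')).homology i →ₗ[A] K'.homology j :=
    (CochainComplex.homologyδOfTriangle (mappingCone.triangle (x • 𝟙 K')) i j hij).hom
  have hι : ∀ y, ι y = 0 ↔ y ∈ LinearMap.range (mx x (K'.homology i)) := by
    intro y
    constructor
    · intro hy
      obtain ⟨w, hw⟩ := (ShortComplex.moduleCat_exact_iff _).mp
        (CochainComplex.homologyMap_exact₂_of_distTriang _ hT i) y hy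
      refine ⟨w, Eq.trans ?_ hw⟩
      change _ = (HomologicalComplex.homologyMap (mappingCone.triangle (x • 𝟙 K')).mor₁ i).hom w
      rw [h1]
      rfl
    · rintro ⟨w, rfl⟩
      have := ConcreteCategory.congr_hom
        (CochainComplex.homologyMap_comp_eq_zero_of_distTriang _ hT i) w
      rw [h1] at this
      exact this
  have hδι : ∀ y, δ (ι y) = 0 := fun y => ConcreteCategory.congr_hom
    (CochainComplex.homologyMap_homologyδOfTriangle _ hT i j hij) y
  have hδ : ∀ w, δ w ∈ LinearMap.ker (mx x (K'.homology j)) := fun w => by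
    have := ConcreteCategory.congr_hom
      (CochainComplex.homologyδOfTriangle_homologyMap _ hT i j hij) w
    rw [h1] at this
    exact this
  refine ⟨Submodule.liftQ _ ι (fun y hy => (hι y).2 hy), δ.codRestrict _ hδ, ?_, ?_, fun w => ⟨?_, ?_⟩⟩
  · rw [← LinearMap.ker_eq_bot]
    exact Submodule.ker_liftQ_eq_bot _ _ _ (fun y hy => (hι y).1 hy)
  · rintro ⟨y, hy⟩
    obtain ⟨w, hw⟩ := (ShortComplex.moduleCat_exact_iff _).mp
      (CochainComplex.homologyMap_exact₁_of_distTriang _ hT i j hij) y (by
        change (HomologicalComplex.homologyMap (mappingCone.triangle (x • 𝟙 K')).mor₁ j).hom y = 0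
        rw [h1]; exact hy)
    exact ⟨w, Subtype.ext hw⟩
  · intro hw
    obtain ⟨y, hy⟩ : ∃ y, ι y = w := (ShortComplex.moduleCat_exact_iff _).mp
      (CochainComplex.homologyMap_exact₃_of_distTriang _ hT i j hij) w (congrArg Subtype.val hw)
    exact ⟨Submodule.Quotient.mk y, hy⟩
  · rintro ⟨q, rfl⟩
    obtain ⟨y, rfl⟩ := Submodule.Quotient.mk_surjective _ q
    exact Subtype.ext (hδι y)

theorem length_cone (x : A) (i j : ℤ) (hij : i + 1 = j) :
    Module.length A ((mappingCone (x • 𝟙 K')).homology i) =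
      Module.length A ((K'.homology i) ⧸ LinearMap.range (mx x (K'.homology i))) +
        Module.length A (LinearMap.ker (mx x (K'.homology j))) := by
  obtain ⟨α, β, hα, hβ, hαβ⟩ := exists_cone_exact (K' := K') x i j hij
  exact Module.length_eq_add_of_exact α β hα hβ hαβ

end LES

theorem length_cons (x : A) (l : List A) (M : Type u) [AddCommGroup M] [Module A M] (i j : ℤ)
    (hij : i + 1 = j) :
    Module.length A (H (x :: l) M i) =
      Module.length A ((H l M i) ⧸ LinearMap.range (mx x (H l M i))) +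
        Module.length A (LinearMap.ker (mx x (H l M j))) :=
  length_cone (K' := K l M) x i j hij

theorem isZero_K_X : ∀ (l : List A) (M : Type u) [AddCommGroup M] [Module A M] (i : ℤ),
    0 < i ∨ i < -(l.length : ℤ) → IsZero ((K l M).X i)
  | [], M, _, _, i, h => HomologicalComplex.isZero_single_obj_X _ _ _ i (by simp at h; omega)
  | f :: l, M, _, _, i, h => by
    refine (CochainComplex.mappingCone.isZero_X_iff (f • 𝟙 (K l M)) i).mpr ⟨?_, ?_⟩ <;>
    · refine isZero_K_X l M _ ?_
      simp only [List.length_cons, Nat.cast_succ] at h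
      omega

theorem subsingleton_H (l : List A) (M : Type u) [AddCommGroup M] [Module A M] (i : ℤ)
    (h : 0 < i ∨ i < -(l.length : ℤ)) : Subsingleton (H l M i) :=
  ModuleCat.subsingleton_of_isZero
    (ShortComplex.isZero_homology_of_isZero_X₂ _ (isZero_K_X l M i h))

theorem length_H_eq_zero (l : List A) (M : Type u) [AddCommGroup M] [Module A M] (i : ℤ)
    (h : 0 < i ∨ i < -(l.length : ℤ)) : Module.length A (H l M i) = 0 :=
  Module.length_eq_zero_iff.2 (subsingleton_H l M i h)

theorem finite_K_X : ∀ (l : List A) (M : Type u) [AddCommGroup M] [Module A M] [Module.Finite A M]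
    (i : ℤ), Module.Finite A ((K l M).X i)
  | [], M, _, _, _, i => by
    by_cases h : i = 0
    · subst h
      exact Module.Finite.equiv (HomologicalComplex.singleObjXSelf (ComplexShape.up ℤ) 0
        (ModuleCat.of A M)).toLinearEquiv.symm
    · have := ModuleCat.subsingleton_of_isZero (isZero_K_X ([] : List A) M i (by simp; omega))
      infer_instance
  | f :: l, M, _, _, _, i => by
    have := finite_K_X l M (i + 1)
    have := finite_K_X l M i
    have : Module.Finite A (ModuleCat.of A (((K l M).X (i + 1) : Type u) × ((K l M).X i : Type u))) :=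
      inferInstanceAs (Module.Finite A (((K l M).X (i + 1) : Type u) × ((K l M).X i : Type u)))
    exact Module.Finite.equiv ((HomologicalComplex.homotopyCofiber.XIsoBiprod
      (f • 𝟙 (K l M)) i (i + 1) rfl) ≪≫ ModuleCat.biprodIsoProd _ _).toLinearEquiv.symm

theorem finite_H [IsNoetherianRing A] (l : List A) (M : Type u) [AddCommGroup M] [Module A M]
    [Module.Finite A M] (i : ℤ) : Module.Finite A (H l M i) := by
  have := finite_K_X l M i
  have : IsNoetherian A ((K l M).X i) := inferInstance
  have : IsNoetherian A ((K l M).sc i).X₂ := ‹IsNoetherian A _›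
  have : Module.Finite A ((K l M).sc i).moduleCatLeftHomologyData.H :=
    inferInstanceAs (Module.Finite A (LinearMap.ker ((K l M).sc i).g.hom ⧸
      LinearMap.range ((K l M).sc i).moduleCatToCycles))
  exact Module.Finite.equiv ((K l M).sc i).moduleCatHomologyIso.toLinearEquiv.symm

theorem smul_H_of_smul_module {a : A} {M : Type u} [AddCommGroup M] [Module A M]
    (ha : ∀ m : M, a • m = 0) (l : List A) (i : ℤ) (z : H l M i) : a • z = 0 := by
  have h0 : mx a M = 0 := LinearMap.ext ha
  have h : a • 𝟙 (K l M) = 0 := by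
    rw [← Itmap_smul_id, ← sg_map_smul_id, h0, show ModuleCat.ofHom (0 : M →ₗ[A] M) = 0 from rfl,
      Functor.map_zero, Itmap_zero]
  have h1 := congrArg (fun φ => HomologicalComplex.homologyMap φ i) h
  simp only [KosCone.Basic.homologyMap_smul_id, HomologicalComplex.homologyMap_zero] at h1
  exact ConcreteCategory.congr_hom h1 z

/-- Tensoring the Koszul complex with a module. -/
theorem nonempty_T_iso : ∀ (l : List A) (M : Type u) [AddCommGroup M] [Module A M],
    Nonempty ((KoszulMul.Append.T (ModuleCat.of A M)).obj (Koszul.koszul A l) ≅ K l M)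
  | [], M, _, _ => ⟨(HomologicalComplex.singleMapHomologicalComplex
      (MonoidalCategory.tensorRight (ModuleCat.of A M)) (ComplexShape.up ℤ) 0).app (ModuleCat.of A A) ≪≫
      (singleFunctor (ModuleCat.{u} A) 0).mapIso
        (MonoidalCategory.leftUnitor (ModuleCat.of A M))⟩
  | f :: l, M, _, _ => by
    obtain ⟨e⟩ := nonempty_T_iso l M
    obtain ⟨j⟩ := KoszulWiebe.nonempty_coneIso (f • 𝟙 ((KoszulMul.Append.T (ModuleCat.of A M)).obj
      (Koszul.koszul A l))) (f • 𝟙 (K l M)) e (by simp)
    exact ⟨mappingCone.mapHomologicalComplexIso (f • 𝟙 (Koszul.koszul A l))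
      (MonoidalCategory.tensorRight (ModuleCat.of A M)) ≪≫
      eqToIso (congrArg (fun φ => mappingCone φ) (KoszulMul.Append.T_map_smul_id _ f _)) ≪≫ j⟩

theorem length_tensor (l : List A) (M : Type u) [AddCommGroup M] [Module A M] (i : ℤ) :
    Module.length A ((DRing.tensorCx (Koszul.koszul A l) (ModuleCat.of A M)).homology i) =
      Module.length A (H l M i) := by
  obtain ⟨e⟩ := nonempty_T_iso l M
  exact ((HomologicalComplex.homologyFunctor _ _ i).mapIso e).toLinearEquiv.length_eq

theorem nonempty_perm {l l' : List A} (h : List.Perm l l') (M : Type u) [AddCommGroup M] [Module A M]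
    (i : ℤ) : Nonempty (H l M i ≃ₗ[A] H l' M i) := by
  obtain ⟨p⟩ := KReg44.nonempty_iso_of_perm h
  obtain ⟨e⟩ := nonempty_T_iso l M
  obtain ⟨e'⟩ := nonempty_T_iso l' M
  exact ⟨((HomologicalComplex.homologyFunctor _ _ i).mapIso
    (e.symm ≪≫ (KoszulMul.Append.T (ModuleCat.of A M)).mapIso p ≪≫ e')).toLinearEquiv⟩

theorem smul_H_of_mem {a : A} {l : List A} (ha : a ∈ Ideal.ofList l) (M : Type u) [AddCommGroup M]
    [Module A M] (i : ℤ) (z : H l M i) : a • z = 0 := by
  obtain ⟨h⟩ := KoszulMul.Append.smul_homotopy (ModuleCat.of A M) ha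
  obtain ⟨e⟩ := nonempty_T_iso l M
  have h1 := h.homologyMap_eq i
  rw [KosCone.Basic.homologyMap_smul_id, HomologicalComplex.homologyMap_zero] at h1
  let j := ((HomologicalComplex.homologyFunctor _ _ i).mapIso e).toLinearEquiv
  obtain ⟨w, rfl⟩ := j.surjective z
  exact (j.map_smul a w).symm.trans ((congrArg j (ConcreteCategory.congr_hom h1 w)).trans (map_zero _))

section Prim

variable [IsLocalRing A]

/-- `(l) + ann M` is primary to the maximal ideal or the unit ideal. -/
def Prim (l : List A) (M : Type u) [AddCommGroup M] [Module A M] : Prop :=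
  maximalIdeal A ≤ (Ideal.ofList l ⊔ Module.annihilator A M).radical

theorem Prim.mono {l : List A} {M N : Type u} [AddCommGroup M] [Module A M] [AddCommGroup N]
    [Module A N] (h : Prim l M) (hMN : Module.annihilator A M ≤ Module.annihilator A N) :
    Prim l N :=
  h.trans (Ideal.radical_mono (sup_le_sup_left hMN _))

theorem Prim.of_injective {l : List A} {M N : Type u} [AddCommGroup M] [Module A M] [AddCommGroup N]
    [Module A N] (h : Prim l M) (f : N →ₗ[A] M) (hf : Function.Injective f) : Prim l N :=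
  h.mono (f.annihilator_le_of_injective hf)

theorem Prim.of_surjective {l : List A} {M N : Type u} [AddCommGroup M] [Module A M] [AddCommGroup N]
    [Module A N] (h : Prim l M) (f : M →ₗ[A] N) (hf : Function.Surjective f) : Prim l N :=
  h.mono (f.annihilator_le_of_surjective hf)

theorem Prim.of_mem {l l' : List A} {M N : Type u} [AddCommGroup M] [Module A M] [AddCommGroup N]
    [Module A N] (h : Prim l M)
    (hl : ∀ a ∈ l, a ∈ (Ideal.ofList l' ⊔ Module.annihilator A N).radical)
    (hann : Module.annihilator A M ≤ (Ideal.ofList l' ⊔ Module.annihilator A N).radical) :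
    Prim l' N :=
  h.trans (Ideal.radical_le_radical_iff.2 (sup_le (Ideal.span_le.2 hl) hann))

theorem Prim.perm {l l' : List A} {M : Type u} [AddCommGroup M] [Module A M] (h : Prim l M)
    (hp : List.Perm l l') : Prim l' M :=
  h.of_mem (fun a ha => Ideal.le_radical (Ideal.mem_sup_left (Ideal.subset_span (hp.mem_iff.1 ha))))
    (le_sup_right.trans Ideal.le_radical)

theorem isFiniteLength_of_radical [IsNoetherianRing A] {N : Type u} [AddCommGroup N] [Module A N]
    [Module.Finite A N] {J : Ideal A} (hJ : maximalIdeal A ≤ J.radical)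
    (h : ∀ a ∈ J, ∀ z : N, a • z = 0) : IsFiniteLength A N := by
  obtain ⟨k, hk⟩ := Ideal.exists_pow_le_of_le_radical_of_fg hJ (IsNoetherian.noetherian _)
  refine S6292.result (maximalIdeal A) (IsNoetherian.noetherian _) N k (eq_bot_iff.2 ?_)
  exact Submodule.smul_le.2 fun a ha z _ => (Submodule.mem_bot A).2 (h a (hk ha) z)

theorem Prim.isFiniteLength_H [IsNoetherianRing A] {l : List A} {M : Type u} [AddCommGroup M]
    [Module A M] [Module.Finite A M] (h : Prim l M) (i : ℤ) : IsFiniteLength A (H l M i) := by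
  have := finite_H l M i
  refine isFiniteLength_of_radical h (fun a ha z => ?_)
  obtain ⟨b, hb, c, hc, rfl⟩ := Submodule.mem_sup.1 ha
  rw [add_smul, smul_H_of_mem hb, smul_H_of_smul_module (Module.mem_annihilator.1 hc), add_zero]

theorem Prim.length_ne_top [IsNoetherianRing A] {l : List A} {M : Type u} [AddCommGroup M]
    [Module A M] [Module.Finite A M] (h : Prim l M) (i : ℤ) :
    Module.length A (H l M i) ≠ ⊤ :=
  Module.length_ne_top_iff.2 (h.isFiniteLength_H i)

theorem prim_of_isFiniteLength [IsNoetherianRing A] (l : List A) (M : Type u) [AddCommGroup M]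
    [Module A M] [Module.Finite A M]
    (h : IsFiniteLength A (M ⧸ (Ideal.ofList l • (⊤ : Submodule A M)))) : Prim l M := by
  have h1 : PrimeSpectrum.zeroLocus ((Ideal.ofList l ⊔ Module.annihilator A M : Ideal A) : Set A) =
      PrimeSpectrum.zeroLocus
        ((Module.annihilator A (M ⧸ (Ideal.ofList l • (⊤ : Submodule A M))) : Ideal A) : Set A) := by
    rw [PrimeSpectrum.zeroLocus_sup, ← Module.support_eq_zeroLocus, ← Module.support_eq_zeroLocus,
      Module.support_quotient, Set.inter_comm]
  rw [Prim, PrimeSpectrum.zeroLocus_eq_iff.1 h1]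
  obtain ⟨_, _⟩ := isFiniteLength_iff_isNoetherian_isArtinian.1 h
  let g : ℕ →o (Submodule A (M ⧸ (Ideal.ofList l • (⊤ : Submodule A M))))ᵒᵈ :=
    ⟨fun n => OrderDual.toDual (maximalIdeal A ^ n • ⊤),
      fun a b hab => Submodule.smul_mono_left (Ideal.pow_le_pow_right hab)⟩
  obtain ⟨n, hn⟩ := IsArtinian.monotone_stabilizes g
  have e : maximalIdeal A ^ n • (⊤ : Submodule A (M ⧸ (Ideal.ofList l • (⊤ : Submodule A M)))) = ⊥ := by
    refine Submodule.eq_bot_of_le_smul_of_le_jacobson_bot (maximalIdeal A) _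
      (IsNoetherian.noetherian _) (le_of_eq ?_) (IsLocalRing.maximalIdeal_le_jacobson _)
    rw [← Submodule.mul_smul, ← pow_succ']
    exact congrArg OrderDual.ofDual (hn (n + 1) n.le_succ)
  refine fun x hx => ⟨n, Module.mem_annihilator.2 fun z => ?_⟩
  rw [← Submodule.mem_bot A, ← e]
  exact Submodule.smul_mem_smul (Ideal.pow_mem_pow hx n) Submodule.mem_top

end Prim

theorem ofList_ofFn {k : ℕ} (x : Fin k → A) : Ideal.ofList (List.ofFn x) = Ideal.span (Set.range x) := by
  rw [Ideal.ofList]
  congr 1
  ext a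
  simp [List.mem_ofFn, eq_comm]

end Groth.Agent.KosEuler
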