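import Groth.Agent.KosEuler.Euler

/-!
# The adic filtration of the Koszul complex of a module
-/

universe u
attribute [local instance] HasDerivedCategory.standard
open CategoryTheory Limits CochainComplex HomComplex IsLocalRing
open scoped Pointwise

namespace Groth.Agent.KosEuler

variable {A : Type u} [CommRing A]

section cone

variable {E : CochainComplex (ModuleCat.{u} A) ℤ} {x : A}

/-- inclusion of the shifted part -/
noncomputable def ci (x : A) (E : CochainComplex (ModuleCat.{u} A) ℤ) (i : ℤ) :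
    E.X (i + 1) →ₗ[A] (mappingCone (x • 𝟙 E)).X i :=
  ((mappingCone.inl (x • 𝟙 E)).v (i + 1) i (by omega)).hom

/-- inclusion of the unshifted part -/
noncomputable def cr (x : A) (E : CochainComplex (ModuleCat.{u} A) ℤ) (i : ℤ) :
    E.X i →ₗ[A] (mappingCone (x • 𝟙 E)).X i :=
  ((mappingCone.inr (x • 𝟙 E)).f i).hom

/-- projection to the shifted part -/
noncomputable def cp (x : A) (E : CochainComplex (ModuleCat.{u} A) ℤ) (i : ℤ) :
    (mappingCone (x • 𝟙 E)).X i →ₗ[A] E.X (i + 1) :=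
  ((mappingCone.fst (x • 𝟙 E)).1.v i (i + 1) rfl).hom

/-- projection to the unshifted part -/
noncomputable def cq (x : A) (E : CochainComplex (ModuleCat.{u} A) ℤ) (i : ℤ) :
    (mappingCone (x • 𝟙 E)).X i →ₗ[A] E.X i :=
  ((mappingCone.snd (x • 𝟙 E)).v i i (add_zero i)).hom

theorem cp_ci (i : ℤ) (p : E.X (i + 1)) : cp x E i (ci x E i p) = p :=
  ConcreteCategory.congr_hom (mappingCone.inl_v_fst_v (x • 𝟙 E) (i + 1) i rfl) p

theorem cq_ci (i : ℤ) (p : E.X (i + 1)) : cq x E i (ci x E i p) = 0 :=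
  ConcreteCategory.congr_hom (mappingCone.inl_v_snd_v (x • 𝟙 E) (i + 1) i (by omega)) p

theorem cp_cr (i : ℤ) (q : E.X i) : cp x E i (cr x E i q) = 0 :=
  ConcreteCategory.congr_hom (mappingCone.inr_f_fst_v (x • 𝟙 E) i (i + 1) rfl) q

theorem cq_cr (i : ℤ) (q : E.X i) : cq x E i (cr x E i q) = q :=
  ConcreteCategory.congr_hom (mappingCone.inr_f_snd_v (x • 𝟙 E) i) q

theorem ci_add_cr (i : ℤ) (z : (mappingCone (x • 𝟙 E)).X i) :
    ci x E i (cp x E i z) + cr x E i (cq x E i z) = z :=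
  ConcreteCategory.congr_hom (mappingCone.id_X (x • 𝟙 E) i (i + 1) rfl) z

theorem cone_ext (i : ℤ) {z w : (mappingCone (x • 𝟙 E)).X i}
    (h₁ : cp x E i z = cp x E i w) (h₂ : cq x E i z = cq x E i w) : z = w := by
  rw [← ci_add_cr i z, ← ci_add_cr i w, h₁, h₂]

theorem cp_d (i : ℤ) (z : (mappingCone (x • 𝟙 E)).X i) :
    cp x E (i + 1) (((mappingCone (x • 𝟙 E)).d i (i + 1)).hom z) =
      -(E.d (i + 1) (i + 1 + 1)).hom (cp x E i z) :=
  ConcreteCategory.congr_hom (mappingCone.d_fst_v (x • 𝟙 E) i (i + 1) (i + 1 + 1) rfl rfl) z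

theorem cq_d (i : ℤ) (z : (mappingCone (x • 𝟙 E)).X i) :
    cq x E (i + 1) (((mappingCone (x • 𝟙 E)).d i (i + 1)).hom z) =
      x • cp x E i z + (E.d i (i + 1)).hom (cq x E i z) :=
  ConcreteCategory.congr_hom (mappingCone.d_snd_v (x • 𝟙 E) i (i + 1) rfl) z

/-- The filtration of a cone induced by a filtration. -/
noncomputable def CF (x : A) (E : CochainComplex (ModuleCat.{u} A) ℤ)
    (G : ℕ → ∀ i, Submodule A (E.X i)) (n : ℕ) (i : ℤ) :
    Submodule A ((mappingCone (x • 𝟙 E)).X i) :=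
  (G (n - 1) (i + 1)).comap (cp x E i) ⊓ (G n i).comap (cq x E i)

variable {G : ℕ → ∀ i, Submodule A (E.X i)} {a : Ideal A}

theorem mem_CF {n : ℕ} {i : ℤ} {z : (mappingCone (x • 𝟙 E)).X i} :
    z ∈ CF x E G n i ↔ cp x E i z ∈ G (n - 1) (i + 1) ∧ cq x E i z ∈ G n i :=
  Iff.rfl

theorem CF_antitone (hG : ∀ {m n : ℕ}, m ≤ n → ∀ i, G n i ≤ G m i) {m n : ℕ} (h : m ≤ n) (i : ℤ) :
    CF x E G n i ≤ CF x E G m i := fun _ hz =>
  ⟨hG (Nat.sub_le_sub_right h 1) (i + 1) hz.1, hG h i hz.2⟩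

theorem smul_mem_CF (hG : ∀ {m n : ℕ}, m ≤ n → ∀ i, G n i ≤ G m i) {r : A}
    (hs : ∀ (n : ℕ) i (z : E.X i), z ∈ G n i → r • z ∈ G (n + 1) i) (n : ℕ) (i : ℤ)
    (z : (mappingCone (x • 𝟙 E)).X i) (hz : z ∈ CF x E G n i) : r • z ∈ CF x E G (n + 1) i := by
  rw [mem_CF, map_smul, map_smul]
  exact ⟨hG (by omega) (i + 1) (hs (n - 1) (i + 1) _ hz.1), hs n i _ hz.2⟩

theorem d_mem_CF (hG : ∀ {m n : ℕ}, m ≤ n → ∀ i, G n i ≤ G m i)
    (hs : ∀ (n : ℕ) i (z : E.X i), z ∈ G n i → x • z ∈ G (n + 1) i)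
    (hd : ∀ (n : ℕ) i (z : E.X i), z ∈ G n i → (E.d i (i + 1)).hom z ∈ G n (i + 1))
    (n : ℕ) (i : ℤ) (z : (mappingCone (x • 𝟙 E)).X i) (hz : z ∈ CF x E G n i) :
    ((mappingCone (x • 𝟙 E)).d i (i + 1)).hom z ∈ CF x E G n (i + 1) := by
  rw [mem_CF, cp_d, cq_d]
  exact ⟨neg_mem (hd (n - 1) (i + 1) _ hz.1),
    add_mem (hG (by omega) (i + 1) (hs (n - 1) (i + 1) _ hz.1)) (hd n i _ hz.2)⟩

theorem CF_succ_le {n : ℕ} (h₁ : ∀ i, G (n + 1) i ≤ a • G n i)
    (h₂ : ∀ i, G (n + 2) i ≤ a • G (n + 1) i) (i : ℤ) :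
    CF x E G (n + 2) i ≤ a • CF x E G (n + 1) i := by
  intro z hz
  rw [← ci_add_cr i z]
  refine add_mem ?_ ?_
  · have e : (G n (i + 1)).map (ci x E i) ≤ CF x E G (n + 1) i := by
      rintro _ ⟨w, hw, rfl⟩
      rw [mem_CF, cp_ci, cq_ci]
      exact ⟨hw, zero_mem _⟩
    refine Submodule.smul_mono le_rfl e ?_
    rw [← Submodule.map_smul'']
    exact Submodule.mem_map_of_mem (h₁ (i + 1) hz.1)
  · have e : (G (n + 1) i).map (cr x E i) ≤ CF x E G (n + 1) i := by
      rintro _ ⟨w, hw, rfl⟩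
      rw [mem_CF, cp_cr, cq_cr]
      exact ⟨zero_mem _, hw⟩
    refine Submodule.smul_mono le_rfl e ?_
    rw [← Submodule.map_smul'']
    exact Submodule.mem_map_of_mem (h₂ i hz.2)

theorem homotopy_head :
    ∃ h : ∀ i : ℤ, (mappingCone (x • 𝟙 E)).X (i + 1) →ₗ[A] (mappingCone (x • 𝟙 E)).X i,
      (∀ (i : ℤ) (z : (mappingCone (x • 𝟙 E)).X (i + 1)),
        ((mappingCone (x • 𝟙 E)).d i (i + 1)).hom (h i z) +
          h (i + 1) (((mappingCone (x • 𝟙 E)).d (i + 1) (i + 1 + 1)).hom z) = x • z) ∧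
      (∀ (n : ℕ) (i : ℤ) (z : (mappingCone (x • 𝟙 E)).X (i + 1)), z ∈ CF x E G n (i + 1) →
        h i z ∈ CF x E G (n + 1) i) := by
  refine ⟨fun i => (ci x E i).comp (cq x E (i + 1)), fun i z => ?_, fun n i z hz => ?_⟩
  · refine cone_ext (i + 1) ?_ ?_
    · simp only [LinearMap.comp_apply, map_add, cp_d, cp_ci, cq_d, map_smul]
      abel
    · simp only [LinearMap.comp_apply, map_add, cq_d, cp_ci, cq_ci, map_zero, map_smul, add_zero, smul_zero]
  · simp only [LinearMap.comp_apply, mem_CF, cp_ci, cq_ci, Nat.add_sub_cancel]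
    exact ⟨hz.2, zero_mem _⟩

theorem homotopy_tail (hG : ∀ {m n : ℕ}, m ≤ n → ∀ i, G n i ≤ G m i) {y : A}
    (h : ∀ i : ℤ, E.X (i + 1) →ₗ[A] E.X i)
    (h₁ : ∀ (i : ℤ) (z : E.X (i + 1)), (E.d i (i + 1)).hom (h i z) +
      h (i + 1) ((E.d (i + 1) (i + 1 + 1)).hom z) = y • z)
    (h₂ : ∀ (n : ℕ) (i : ℤ) (z : E.X (i + 1)), z ∈ G n (i + 1) → h i z ∈ G (n + 1) i) :
    ∃ h : ∀ i : ℤ, (mappingCone (x • 𝟙 E)).X (i + 1) →ₗ[A] (mappingCone (x • 𝟙 E)).X i,
      (∀ (i : ℤ) (z : (mappingCone (x • 𝟙 E)).X (i + 1)),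
        ((mappingCone (x • 𝟙 E)).d i (i + 1)).hom (h i z) +
          h (i + 1) (((mappingCone (x • 𝟙 E)).d (i + 1) (i + 1 + 1)).hom z) = y • z) ∧
      (∀ (n : ℕ) (i : ℤ) (z : (mappingCone (x • 𝟙 E)).X (i + 1)), z ∈ CF x E G n (i + 1) →
        h i z ∈ CF x E G (n + 1) i) := by
  refine ⟨fun i => -(ci x E i).comp ((h (i + 1)).comp (cp x E (i + 1))) +
    (cr x E i).comp ((h i).comp (cq x E (i + 1))), fun i z => ?_, fun n i z hz => ?_⟩
  · refine cone_ext (i + 1) ?_ ?_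
    · simp only [LinearMap.add_apply, LinearMap.neg_apply, LinearMap.comp_apply, map_add, map_neg,
        map_smul, cp_d, cp_ci, cp_cr, map_zero, add_zero, neg_neg, neg_zero]
      exact h₁ (i + 1) (cp x E (i + 1) z)
    · simp only [LinearMap.add_apply, LinearMap.neg_apply, LinearMap.comp_apply, map_add, map_neg,
        map_smul, cq_d, cp_ci, cp_cr, cq_ci, cq_cr, neg_zero, zero_add, add_zero, map_zero, smul_zero]
      rw [← h₁ i (cq x E (i + 1) z)]
      abel
  · simp only [LinearMap.add_apply, LinearMap.neg_apply, LinearMap.comp_apply, mem_CF, map_add,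
      map_neg, cp_ci, cp_cr, cq_ci, cq_cr, add_zero, neg_zero, zero_add]
    exact ⟨neg_mem (hG (by omega) (i + 1) (h₂ (n - 1) (i + 1) _ hz.1)), h₂ n i _ hz.2⟩

end cone

variable (a : Ideal A) (M : Type u) [AddCommGroup M] [Module A M]

/-- The adic filtration on the Koszul complex. -/
noncomputable def F : ∀ (l : List A), ℕ → ∀ i : ℤ, Submodule A ((K l M).X i)
  | [], n, _ => a ^ n • ⊤
  | x :: l, n, i => CF x (K l M) (fun n i => F l n i) n i

variable {a M}

theorem d_nil (i : ℤ) (z : (K ([] : List A) M).X i) :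
    ((K ([] : List A) M).d i (i + 1)).hom z = 0 := by
  have h : (K ([] : List A) M).d i (i + 1) = 0 := HomologicalComplex.single_obj_d _ _ _ _ _
  rw [h]; rfl

theorem F_antitone : ∀ (l : List A) {m n : ℕ}, m ≤ n → ∀ i, F a M l n i ≤ F a M l m i
  | [], _, _, h, _ => Submodule.smul_mono_left (Ideal.pow_le_pow_right h)
  | x :: l, _, _, h, i => CF_antitone (x := x) (E := K l M) (fun h i => F_antitone l h i) h i

theorem smul_mem_F {r : A} (hr : r ∈ a) : ∀ (l : List A) (n : ℕ) (i : ℤ) (z : (K l M).X i),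
    z ∈ F a M l n i → r • z ∈ F a M l (n + 1) i
  | [], n, _, z, hz => by
    change r • z ∈ a ^ (n + 1) • ⊤
    rw [pow_succ', Submodule.mul_smul]
    exact Submodule.smul_mem_smul hr hz
  | x :: l, n, i, z, hz =>
    smul_mem_CF (x := x) (E := K l M) (fun h i => F_antitone l h i) (smul_mem_F hr l) n i z hz

theorem d_mem_F : ∀ (l : List A), (∀ r ∈ l, r ∈ a) → ∀ (n : ℕ) (i : ℤ) (z : (K l M).X i),
    z ∈ F a M l n i → ((K l M).d i (i + 1)).hom z ∈ F a M l n (i + 1)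
  | [], _, _, i, z, _ => by rw [d_nil]; exact zero_mem _
  | x :: l, hl, n, i, z, hz =>
    d_mem_CF (x := x) (E := K l M) (fun h i => F_antitone l h i) (smul_mem_F (hl x (by simp)) l)
      (d_mem_F l fun r hr => hl r (List.mem_cons_of_mem _ hr)) n i z hz

theorem F_succ : ∀ (l : List A) (n : ℕ), l.length ≤ n → ∀ i, F a M l (n + 1) i = a • F a M l n i
  | [], n, _, _ => by rw [F, F, pow_succ', Submodule.mul_smul]
  | x :: l, n, hn, i => by
    simp only [List.length_cons] at hn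
    refine le_antisymm ?_ (Submodule.smul_le.2 fun r hr z hz => smul_mem_F hr _ n i z hz)
    obtain ⟨m, rfl⟩ : ∃ m, n = m + 1 := ⟨n - 1, by omega⟩
    exact CF_succ_le (x := x) (E := K l M) (fun i => (F_succ l m (by omega) i).le)
      (fun i => (F_succ l (m + 1) (by omega) i).le) i

/-- A homotopy for multiplication by an element of the sequence, compatible with the filtration. -/
theorem exists_homotopy : ∀ (l : List A) (y : A), y ∈ l →
    ∃ h : ∀ i : ℤ, (K l M).X (i + 1) →ₗ[A] (K l M).X i,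
      (∀ (i : ℤ) (z : (K l M).X (i + 1)), ((K l M).d i (i + 1)).hom (h i z) +
        h (i + 1) (((K l M).d (i + 1) (i + 1 + 1)).hom z) = y • z) ∧
      (∀ (n : ℕ) (i : ℤ) (z : (K l M).X (i + 1)), z ∈ F a M l n (i + 1) → h i z ∈ F a M l (n + 1) i)
  | [], _, h => absurd h (List.not_mem_nil)
  | x :: l, y, hy => by
    rcases List.mem_cons.1 hy with rfl | hy
    · exact homotopy_head (x := y) (E := K l M)
    · obtain ⟨h, h₁, h₂⟩ := exists_homotopy l y hy
      exact homotopy_tail (x := x) (E := K l M) (fun h i => F_antitone l h i) h h₁ h₂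

/-- The filtration is acyclic far out. -/
theorem exists_acyclic [IsNoetherianRing A] [Module.Finite A M] (l : List A) (i : ℤ) :
    ∃ N : ℕ, ∀ n, N ≤ n → ∀ z ∈ F (Ideal.ofList l) M l n (i + 1),
      ((K l M).d (i + 1) (i + 1 + 1)).hom z = 0 →
        ∃ w ∈ F (Ideal.ofList l) M l n i, ((K l M).d i (i + 1)).hom w = z := by
  let D : ℕ := l.length
  let G := F (Ideal.ofList l) M l D (i + 1)
  let d := ((K l M).d (i + 1) (i + 1 + 1)).hom
  have := finite_K_X l M (i + 1)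
  obtain ⟨k, hk⟩ := (Ideal.ofList l).exists_pow_inf_eq_pow_smul ((LinearMap.ker d).comap G.subtype)
  have hF : ∀ m, F (Ideal.ofList l) M l (D + m) (i + 1) = Ideal.ofList l ^ m • G := by
    intro m
    induction m with
    | zero => rw [pow_zero, Ideal.one_eq_top, Submodule.top_smul]; rfl
    | succ m ih => rw [← add_assoc, F_succ l (D + m) (by omega), ih, pow_succ', Submodule.mul_smul]
  refine ⟨D + k + 1, fun n hn z hz hdz => ?_⟩
  obtain ⟨m, rfl, hm⟩ : ∃ m, n = D + (m + 1) ∧ k ≤ m := ⟨n - D - 1, by omega, by omega⟩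
  have hz' : z ∈ Ideal.ofList l • (F (Ideal.ofList l) M l (D + m) (i + 1) ⊓ LinearMap.ker d) := by
    rw [hF] at hz
    have hzG : z ∈ G := Submodule.smul_le_right hz
    have h1 : (⟨z, hzG⟩ : G) ∈ Ideal.ofList l ^ (m + 1) • (⊤ : Submodule A G) ⊓
        (LinearMap.ker d).comap G.subtype := by
      refine ⟨?_, hdz⟩
      have h0 : z ∈ (Ideal.ofList l ^ (m + 1) • (⊤ : Submodule A G)).map G.subtype := by
        rw [Submodule.map_smul'', Submodule.map_top, Submodule.range_subtype]; exact hz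
      obtain ⟨u, hu, e⟩ := h0
      have e' : u = ⟨z, hzG⟩ := Subtype.ext e
      exact e' ▸ hu
    rw [hk (m + 1) (by omega), show m + 1 - k = (m - k) + 1 by omega, pow_succ', Submodule.mul_smul,
      ← hk m hm] at h1
    have h2 := Submodule.mem_map_of_mem (f := G.subtype) h1
    rw [Submodule.map_smul''] at h2
    refine Submodule.smul_mono le_rfl ?_ h2
    rintro _ ⟨w, hw, rfl⟩
    refine ⟨?_, hw.2⟩
    rw [hF]
    have h3 := Submodule.mem_map_of_mem (f := G.subtype) hw.1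
    rw [Submodule.map_smul'', Submodule.map_top, Submodule.range_subtype] at h3
    exact h3
  refine Submodule.smul_induction_on hz' (fun r hr w hw => ?_) ?_
  · refine Submodule.span_induction (p := fun r _ => ∃ v ∈ F (Ideal.ofList l) M l (D + (m + 1)) i,
      ((K l M).d i (i + 1)).hom v = r • w) ?_ ?_ ?_ ?_ hr
    · intro y hy
      obtain ⟨h, h₁, h₂⟩ := exists_homotopy (a := Ideal.ofList l) (M := M) l y hy
      refine ⟨h i w, h₂ (D + m) i w hw.1, ?_⟩
      have := h₁ i w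
      have h0 : ((K l M).d (i + 1) (i + 1 + 1)).hom w = 0 := hw.2
      rwa [h0, map_zero, add_zero] at this
    · exact ⟨0, zero_mem _, by rw [map_zero, zero_smul]⟩
    · rintro r s - - ⟨v, hv, e⟩ ⟨v', hv', e'⟩
      exact ⟨v + v', add_mem hv hv', by rw [map_add, e, e', add_smul]⟩
    · rintro c r - ⟨v, hv, e⟩
      exact ⟨c • v, Submodule.smul_mem _ c hv, by rw [map_smul, e, smul_assoc]⟩
  · rintro u v ⟨p, hp, rfl⟩ ⟨q, hq, rfl⟩
    exact ⟨p + q, add_mem hp hq, map_add _ _ _⟩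

end Groth.Agent.KosEuler
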