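import Groth.Agent.KosEuler.Basic
import Groth.Agent.DRing.AltTrace
import Mathlib.RingTheory.QuotSMulTop

/-!
# The Koszul Euler characteristic: additivity and multiplicativity
-/

universe u
attribute [local instance] HasDerivedCategory.standard
open CategoryTheory Limits CochainComplex HomComplex IsLocalRing
open scoped Pointwise

namespace Groth.Agent.KosEuler

open LenLib (lenZ HasIndex index)
open KoszulMul.CechRegular (It)

variable {A : Type u} [CommRing A]

local notation "sgn" i => ((Int.negOnePow i : ℤˣ) : ℤ)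

/-- The Euler characteristic of Koszul homology. -/
noncomputable def χ (l : List A) (M : Type u) [AddCommGroup M] [Module A M] : ℤ :=
  ∑ᶠ i : ℤ, (sgn i) * lenZ A (H l M i)

theorem χ_eq_tensor (l : List A) (M : Type u) [AddCommGroup M] [Module A M] :
    (∑ᶠ i : ℤ, ((i.negOnePow : ℤˣ) : ℤ) *
      ((Module.length A ((DRing.tensorCx (Koszul.koszul A l) (ModuleCat.of A M)).homology i)).toNat : ℤ)) =
      χ l M :=
  finsum_congr fun i => by rw [length_tensor]; rfl

theorem χ_eq_sum (l : List A) (M : Type u) [AddCommGroup M] [Module A M] {a b : ℤ}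
    (ha : a ≤ -(l.length : ℤ)) (hb : 0 ≤ b) :
    χ l M = ∑ i ∈ Finset.Icc a b, (sgn i) * lenZ A (H l M i) := by
  refine finsum_eq_sum_of_support_subset _ (fun i hi => ?_)
  simp only [Function.mem_support] at hi
  simp only [Finset.coe_Icc, Set.mem_Icc]
  by_contra hc
  refine hi ?_
  rw [lenZ, length_H_eq_zero l M i (by omega)]
  simp

theorem χ_congr_length {l l' : List A} {M N : Type u} [AddCommGroup M] [Module A M] [AddCommGroup N]
    [Module A N] (h : ∀ i, Module.length A (H l M i) = Module.length A (H l' N i)) :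
    χ l M = χ l' N :=
  finsum_congr fun i => by rw [lenZ, lenZ, h i]

theorem χ_perm {l l' : List A} (h : List.Perm l l') (M : Type u) [AddCommGroup M] [Module A M] :
    χ l M = χ l' M :=
  χ_congr_length fun i => (nonempty_perm h M i).some.length_eq

theorem χ_nil (M : Type u) [AddCommGroup M] [Module A M] : χ ([] : List A) M = lenZ A M := by
  rw [χ_eq_sum [] M (a := 0) (b := 0) (by simp) le_rfl, Finset.Icc_self, Finset.sum_singleton,
    Int.negOnePow_zero, Units.val_one, one_mul]
  exact LenLib.lenZ_congr (HomologicalComplex.singleObjHomologySelfIso (ComplexShape.up ℤ) 0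
    (ModuleCat.of A M)).toLinearEquiv

theorem χ_of_subsingleton (l : List A) (M : Type u) [AddCommGroup M] [Module A M] [Subsingleton M] :
    χ l M = 0 := by
  refine finsum_eq_zero_of_forall_eq_zero fun i => ?_
  have : Subsingleton (H l M i) := subsingleton_of_forall_eq 0 fun z => by
    have := smul_H_of_smul_module (a := (1 : A)) (M := M) (fun m => Subsingleton.elim _ _) l i z
    rwa [one_smul] at this
  simp [lenZ, Module.length_eq_zero]

theorem length_H_congr (l : List A) {M N : Type u} [AddCommGroup M] [Module A M] [AddCommGroup N]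
    [Module A N] (e : M ≃ₗ[A] N) (i : ℤ) :
    Module.length A (H l M i) = Module.length A (H l N i) := by
  let f := Itmap l ((singleFunctor (ModuleCat.{u} A) 0).map e.toModuleIso.hom)
  let g := Itmap l ((singleFunctor (ModuleCat.{u} A) 0).map e.toModuleIso.inv)
  have h1 : ∀ E : DRing.Cx A, Itmap l (𝟙 E) = 𝟙 (It l E) := fun E => by
    rw [← one_smul A (𝟙 E), Itmap_smul_id, one_smul]
  let j : K l M ≅ K l N :=
    { hom := f
      inv := g
      hom_inv_id := by rw [← Itmap_comp, ← Functor.map_comp, Iso.hom_inv_id, CategoryTheory.Functor.map_id, h1]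
      inv_hom_id := by rw [← Itmap_comp, ← Functor.map_comp, Iso.inv_hom_id, CategoryTheory.Functor.map_id, h1] }
  exact ((HomologicalComplex.homologyFunctor _ _ i).mapIso j).toLinearEquiv.length_eq

theorem χ_congr (l : List A) {M N : Type u} [AddCommGroup M] [Module A M] [AddCommGroup N]
    [Module A N] (e : M ≃ₗ[A] N) : χ l M = χ l N :=
  χ_congr_length (length_H_congr l e)

/-! ### The head of the sequence -/

theorem hasIndex_head {x : A} {l : List A} {M : Type u} [AddCommGroup M] [Module A M]
    (h : ∀ i, Module.length A (H (x :: l) M i) ≠ ⊤) (i : ℤ) : HasIndex (mx x (H l M i)) := by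
  refine ⟨?_, ?_⟩
  · have := h (i - 1)
    rw [length_cons x l M (i - 1) i (by omega)] at this
    exact (WithTop.add_ne_top.1 this).2
  · have := h i
    rw [length_cons x l M i (i + 1) rfl] at this
    exact (WithTop.add_ne_top.1 this).1

theorem χ_cons {x : A} {l : List A} {M : Type u} [AddCommGroup M] [Module A M]
    (h : ∀ i, HasIndex (mx x (H l M i))) :
    χ (x :: l) M = ∑ i ∈ Finset.Icc (-(l.length : ℤ) - 1) 1, (sgn i) * index (mx x (H l M i)) := by
  let u : ℤ → ℤ := fun i => lenZ A (LinearMap.ker (mx x (H l M (i + 1))))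
  have hu : ∀ i, (0 < i + 1 ∨ i + 1 < -(l.length : ℤ)) → u i = 0 := by
    intro i hi
    have := subsingleton_H l M (i + 1) hi
    have : Subsingleton (LinearMap.ker (mx x (H l M (i + 1)))) := subsingleton_of_forall_eq 0 fun z =>
      Subtype.ext (@Subsingleton.elim (H l M (i + 1)) _ _ _)
    simp only [u, lenZ, Module.length_eq_zero, ENat.toNat_zero, Nat.cast_zero]
  have key : ∀ i, lenZ A (H (x :: l) M i) = index (mx x (H l M i)) + (u i + u (i - 1)) := by
    intro i
    have e0 : ∀ j, j = i → lenZ A (LinearMap.ker (mx x (H l M j))) =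
        lenZ A (LinearMap.ker (mx x (H l M i))) := by
      rintro j rfl; rfl
    have e : u (i - 1) = lenZ A (LinearMap.ker (mx x (H l M i))) := e0 _ (by omega)
    rw [e, index, lenZ, length_cons x l M i (i + 1) rfl, ENat.toNat_add (h i).2 (h (i + 1)).1]
    simp only [u, lenZ]
    push_cast
    ring
  rw [χ_eq_sum (x :: l) M (a := -(l.length : ℤ) - 1) (b := 1)
    (by simp only [List.length_cons, Nat.cast_succ]; omega) (by norm_num)]
  simp only [key, mul_add, Finset.sum_add_distrib]
  rw [← Finset.sum_add_distrib (f := fun i : ℤ => (sgn i) * u i)]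
  simp only [← mul_add]
  have := DRing.AltTrace.telescope u (-(l.length : ℤ) - 1) 1 (by omega)
  simp only [smul_eq_mul] at this
  rw [this, hu 1 (by omega), hu _ (by omega)]
  ring

theorem mx_mul (x y : A) (N : Type u) [AddCommGroup N] [Module A N] :
    mx (x * y) N = (mx x N).comp (mx y N) := LinearMap.ext fun m => mul_smul x y m

theorem χ_mul {x y : A} {l : List A} {M : Type u} [AddCommGroup M] [Module A M]
    (hx : ∀ i, HasIndex (mx x (H l M i))) (hy : ∀ i, HasIndex (mx y (H l M i))) :
    χ ((x * y) :: l) M = χ (x :: l) M + χ (y :: l) M := by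
  have h : ∀ i, HasIndex (mx (x * y) (H l M i)) := fun i => by
    rw [mx_mul]; exact (hx i).comp (hy i)
  rw [χ_cons h, χ_cons hx, χ_cons hy, ← Finset.sum_add_distrib]
  refine Finset.sum_congr rfl fun i _ => ?_
  rw [mx_mul, LenLib.index_comp (hx i) (hy i), mul_add]

theorem χ_pow {x : A} {l : List A} {M : Type u} [AddCommGroup M] [Module A M]
    (hx : ∀ i, HasIndex (mx x (H l M i))) (n : ℕ) :
    χ (x ^ n :: l) M = n * χ (x :: l) M := by
  have h : ∀ (n : ℕ) i, HasIndex (mx (x ^ n) (H l M i)) ∧
      index (mx (x ^ n) (H l M i)) = n * index (mx x (H l M i)) := by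
    intro n i
    induction n with
    | zero =>
      have e : mx (x ^ 0) (H l M i) = LinearMap.id := by simp [mx]
      rw [e]
      exact ⟨LenLib.hasIndex_of_bijective Function.bijective_id,
        by rw [LenLib.index_of_bijective Function.bijective_id]; simp⟩
    | succ n ih =>
      rw [pow_succ, mx_mul]
      refine ⟨ih.1.comp (hx i), ?_⟩
      rw [LenLib.index_comp ih.1 (hx i), ih.2]
      push_cast
      ring
  rw [χ_cons (fun i => (h n i).1), χ_cons hx, Finset.mul_sum]
  refine Finset.sum_congr rfl fun i _ => ?_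
  rw [(h n i).2]
  ring

theorem χ_cons_of_smul_eq_zero {x : A} {l : List A} {M : Type u} [AddCommGroup M] [Module A M]
    (hx : ∀ m : M, x • m = 0) (h : ∀ i, Module.length A (H l M i) ≠ ⊤) : χ (x :: l) M = 0 := by
  rw [χ_cons (fun i => LenLib.hasIndex_of_finite (h i) (h i))]
  refine Finset.sum_eq_zero fun i _ => ?_
  rw [LenLib.index_of_finite (h i) (h i), sub_self, mul_zero]

/-! ### Short exact sequences -/

section SES

variable {l : List A} {M₁ M₂ M₃ : Type u} [AddCommGroup M₁] [Module A M₁] [AddCommGroup M₂]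
  [Module A M₂] [AddCommGroup M₃] [Module A M₃] {f : M₁ →ₗ[A] M₂} {g : M₂ →ₗ[A] M₃}

/-- The short exact sequence of Koszul complexes. -/
noncomputable def KS (l : List A) (hfg : Function.Exact f g) : ShortComplex (DRing.Cx A) :=
  ItS l ((ShortComplex.mk (ModuleCat.ofHom f) (ModuleCat.ofHom g)
    (ModuleCat.hom_ext hfg.linearMap_comp_eq_zero)).map
      (HomologicalComplex.single (ModuleCat.{u} A) (ComplexShape.up ℤ) 0))

theorem shortExact_KS (hf : Function.Injective f) (hg : Function.Surjective g)
    (hfg : Function.Exact f g) : (KS l hfg).ShortExact := by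
  refine shortExact_ItS l _ (ShortComplex.ShortExact.map_of_exact ?_ _)
  exact { exact := (ShortComplex.moduleCat_exact_iff _).mpr fun x hx => (hfg x).1 hx
          mono_f := (ModuleCat.mono_iff_injective _).2 hf
          epi_g := (ModuleCat.epi_iff_surjective _).2 hg }

theorem length_H_le (hf : Function.Injective f) (hg : Function.Surjective g)
    (hfg : Function.Exact f g) (l : List A) (i : ℤ) :
    Module.length A (H l M₂ i) ≤ Module.length A (H l M₁ i) + Module.length A (H l M₃ i) := by
  have hS := shortExact_KS (l := l) hf hg hfg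
  let p : H l M₁ i →ₗ[A] H l M₂ i := (HomologicalComplex.homologyMap (KS l hfg).f i).hom
  let q : H l M₂ i →ₗ[A] H l M₃ i := (HomologicalComplex.homologyMap (KS l hfg).g i).hom
  have e : Function.Exact p q :=
    (ShortComplex.ShortExact.moduleCat_exact_iff_function_exact _).mp (hS.homology_exact₂ i)
  refine le_of_eq_of_le (LenLib.length_eq_range_add e) (add_le_add ?_ ?_)
  · exact Module.length_le_of_surjective _ (LinearMap.surjective_rangeRestrict _)
  · exact Module.length_le_of_injective _ (Submodule.injective_subtype _)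

theorem χ_add (hf : Function.Injective f) (hg : Function.Surjective g) (hfg : Function.Exact f g)
    (h₁ : ∀ i, Module.length A (H l M₁ i) ≠ ⊤) (h₂ : ∀ i, Module.length A (H l M₂ i) ≠ ⊤)
    (h₃ : ∀ i, Module.length A (H l M₃ i) ≠ ⊤) :
    χ l M₂ = χ l M₁ + χ l M₃ := by
  have hS := shortExact_KS (l := l) hf hg hfg
  let φ : ∀ i, H l M₁ i →ₗ[A] H l M₂ i := fun i => (HomologicalComplex.homologyMap (KS l hfg).f i).hom
  let ψ : ∀ i, H l M₂ i →ₗ[A] H l M₃ i := fun i => (HomologicalComplex.homologyMap (KS l hfg).g i).hom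
  let δ : ∀ i, H l M₃ i →ₗ[A] H l M₁ (i + 1) := fun i => (hS.δ i (i + 1) rfl).hom
  let u : ℤ → ℤ := fun i => lenZ A (LinearMap.range (δ i))
  have e₂ : ∀ i, Function.Exact (φ i) (ψ i) := fun i =>
    (ShortComplex.ShortExact.moduleCat_exact_iff_function_exact _).mp (hS.homology_exact₂ i)
  have e₃ : ∀ i, Function.Exact (ψ i) (δ i) := fun i =>
    (ShortComplex.ShortExact.moduleCat_exact_iff_function_exact _).mp (hS.homology_exact₃ i (i + 1) rfl)
  have e₁ : ∀ i, Function.Exact (δ i) (φ (i + 1)) := fun i =>
    (ShortComplex.ShortExact.moduleCat_exact_iff_function_exact _).mp (hS.homology_exact₁ i (i + 1) rfl)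
  have key : ∀ i, lenZ A (H l M₁ i) + lenZ A (H l M₃ i) = lenZ A (H l M₂ i) + (u i + u (i - 1)) := by
    intro i
    obtain ⟨k, rfl⟩ : ∃ k, i = k + 1 := ⟨i - 1, by omega⟩
    have a : lenZ A (H l M₁ (k + 1)) = u k + lenZ A (LinearMap.range (φ (k + 1))) :=
      LenLib.lenZ_eq_range_add (e₁ k) (h₁ _)
    have b : lenZ A (H l M₂ (k + 1)) =
        lenZ A (LinearMap.range (φ (k + 1))) + lenZ A (LinearMap.range (ψ (k + 1))) :=
      LenLib.lenZ_eq_range_add (e₂ _) (h₂ _)
    have c : lenZ A (H l M₃ (k + 1)) = lenZ A (LinearMap.range (ψ (k + 1))) + u (k + 1) :=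
      LenLib.lenZ_eq_range_add (e₃ _) (h₃ _)
    rw [show k + 1 - 1 = k by omega]
    omega
  have hu : ∀ i, (0 < i + 1 ∨ i + 1 < -(l.length : ℤ)) → u i = 0 := by
    intro i hi
    have := subsingleton_H l M₁ (i + 1) hi
    have : Subsingleton (LinearMap.range (δ i)) := subsingleton_of_forall_eq 0 fun z =>
      Subtype.ext (@Subsingleton.elim (H l M₁ (i + 1)) _ _ _)
    simp only [u, lenZ, Module.length_eq_zero, ENat.toNat_zero, Nat.cast_zero]
  have hw : ∀ M [AddCommGroup M] [Module A M], χ l M =
      ∑ i ∈ Finset.Icc (-(l.length : ℤ) - 1) 1, (sgn i) * lenZ A (H l M i) :=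
    fun M _ _ => χ_eq_sum l M (by omega) (by norm_num)
  rw [hw M₁, hw M₂, hw M₃, ← Finset.sum_add_distrib]
  simp only [← mul_add, key]
  simp only [mul_add, Finset.sum_add_distrib]
  rw [← Finset.sum_add_distrib (f := fun i : ℤ => (sgn i) * u i)]
  simp only [← mul_add]
  have := DRing.AltTrace.telescope u (-(l.length : ℤ) - 1) 1 (by omega)
  simp only [smul_eq_mul] at this
  rw [this, hu 1 (by omega), hu _ (by omega)]
  ring

end SES

theorem exact_mx_mkQ (x : A) (M : Type u) [AddCommGroup M] [Module A M] :
    Function.Exact (mx x M) (Submodule.mkQ (x • (⊤ : Submodule A M))) := by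
  intro m
  simp [Submodule.mem_smul_pointwise_iff_exists, mx]

theorem length_H_of_isSMulRegular {x : A} {M : Type u} [AddCommGroup M] [Module A M]
    (hx : IsSMulRegular M x) (l : List A) (i : ℤ) :
    Module.length A (H (x :: l) M i) = Module.length A (H l (QuotSMulTop x M) i) := by
  have hS := shortExact_KS (l := l) (f := mx x M) (g := Submodule.mkQ (x • (⊤ : Submodule A M))) hx
    (Submodule.mkQ_surjective _) (exact_mx_mkQ x M)
  let p : ∀ k, H l M k →ₗ[A] H l M k := fun k =>
    (HomologicalComplex.homologyMap (KS l (exact_mx_mkQ x M)).f k).hom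
  let q : H l M i →ₗ[A] H l (QuotSMulTop x M) i :=
    (HomologicalComplex.homologyMap (KS l (exact_mx_mkQ x M)).g i).hom
  let δ : H l (QuotSMulTop x M) i →ₗ[A] H l M (i + 1) := (hS.δ i (i + 1) rfl).hom
  have e₂ : Function.Exact (p i) q :=
    (ShortComplex.ShortExact.moduleCat_exact_iff_function_exact _).mp (hS.homology_exact₂ i)
  have e₃ : Function.Exact q δ := (ShortComplex.ShortExact.moduleCat_exact_iff_function_exact _).mp
    (hS.homology_exact₃ i (i + 1) rfl)
  have e₁ : Function.Exact δ (p (i + 1)) :=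
    (ShortComplex.ShortExact.moduleCat_exact_iff_function_exact _).mp
      (hS.homology_exact₁ i (i + 1) rfl)
  have hf : Itmap l ((singleFunctor (ModuleCat.{u} A) 0).map (ModuleCat.ofHom (mx x M))) =
      x • 𝟙 (K l M) := by
    rw [← Itmap_smul_id, ← sg_map_smul_id]
  have h1 : ∀ k, p k = mx x (H l M k) := fun k =>
    (congrArg (fun φ : K l M ⟶ K l M => (HomologicalComplex.homologyMap φ k).hom) hf).trans
      (congrArg ModuleCat.Hom.hom (KosCone.Basic.homologyMap_smul_id x (K l M) k))
  rw [length_cons x l M i (i + 1) rfl]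
  refine ((LenLib.length_eq_range_add e₃).trans (congrArg₂ (· + ·) ?_ ?_)).symm
  · refine (LinearMap.quotKerEquivRange q).symm.length_eq.trans
      (Submodule.quotEquivOfEq _ _ ?_).length_eq
    exact e₂.linearMap_ker_eq.trans (congrArg LinearMap.range (h1 i))
  · refine (LinearEquiv.ofEq _ _ ?_).length_eq
    exact e₁.linearMap_ker_eq.symm.trans (congrArg LinearMap.ker (h1 (i + 1)))

theorem χ_cons_of_isSMulRegular {x : A} {M : Type u} [AddCommGroup M] [Module A M]
    (hx : IsSMulRegular M x) (l : List A) : χ (x :: l) M = χ l (QuotSMulTop x M) :=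
  χ_congr_length (length_H_of_isSMulRegular hx l)

section Prim

variable [IsLocalRing A]

theorem Prim.cons_drop {x : A} {l : List A} {M N : Type u} [AddCommGroup M] [Module A M]
    [AddCommGroup N] [Module A N] (h : Prim (x :: l) M)
    (hMN : Module.annihilator A M ≤ Module.annihilator A N)
    (hx : x ∈ (Ideal.ofList l ⊔ Module.annihilator A N).radical) : Prim l N := by
  refine h.of_mem (fun a ha => ?_) (hMN.trans (le_sup_right.trans Ideal.le_radical))
  rcases List.mem_cons.1 ha with rfl | ha
  · exact hx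
  · exact Ideal.le_radical (Ideal.mem_sup_left (Ideal.subset_span ha))

theorem Prim.quotSMulTop {x : A} {l : List A} {M : Type u} [AddCommGroup M] [Module A M]
    (h : Prim (x :: l) M) : Prim l (QuotSMulTop x M) := by
  refine h.cons_drop ((Submodule.mkQ _).annihilator_le_of_surjective (Submodule.mkQ_surjective _))
    (Ideal.le_radical (Ideal.mem_sup_right (Module.mem_annihilator.2 fun q => ?_)))
  obtain ⟨m, rfl⟩ := Submodule.mkQ_surjective _ q
  exact (Submodule.Quotient.mk_eq_zero _).2 (Submodule.smul_mem_pointwise_smul m x ⊤ trivial)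

theorem χ_powers [IsNoetherianRing A] (M : Type u) [AddCommGroup M] [Module A M] [Module.Finite A M] :
    ∀ (l : List (A × ℕ)) (pre : List A), Prim (pre ++ l.map Prod.fst) M →
      χ (pre ++ l.map fun p => p.1 ^ p.2) M =
        (l.map fun p => (p.2 : ℤ)).prod * χ (pre ++ l.map Prod.fst) M
  | [], pre, _ => by simp
  | (a, n) :: l, pre, h => by
    simp only [List.map_cons, List.prod_cons] at h ⊢
    have h' : Prim (pre ++ [a ^ n] ++ l.map Prod.fst) M := by
      refine h.of_mem (fun b hb => ?_) (le_sup_right.trans Ideal.le_radical)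
      have hsub : ∀ c ∈ pre ++ [a ^ n] ++ l.map Prod.fst, c ∈ (Ideal.ofList (pre ++ [a ^ n] ++
          l.map Prod.fst) ⊔ Module.annihilator A M).radical :=
        fun c hc => Ideal.le_radical (Ideal.mem_sup_left (Ideal.subset_span hc))
      rcases List.mem_append.1 hb with hb | hb
      · exact hsub b (by simp [hb])
      · rcases List.mem_cons.1 hb with rfl | hb
        · exact ⟨n, Ideal.mem_sup_left (Ideal.subset_span (by simp : b ^ n ∈ _))⟩
        · exact hsub b (List.mem_append_right _ hb)
    have ih := χ_powers M l (pre ++ [a ^ n]) h'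
    simp only [List.append_assoc, List.cons_append, List.nil_append] at ih
    rw [ih]
    have hp : ∀ b : A, List.Perm (pre ++ b :: l.map Prod.fst) (b :: (pre ++ l.map Prod.fst)) :=
      fun b => List.perm_middle
    rw [χ_perm (hp (a ^ n)), χ_perm (hp a),
      χ_pow (hasIndex_head (fun i => (h.perm (hp a)).length_ne_top i))]
    ring

end Prim

end Groth.Agent.KosEuler
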