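import Groth.Agent.KosEuler.ConeFiltr

/-!
# The Euler characteristic through the quotients of an acyclic filtration step
-/

universe u
attribute [local instance] HasDerivedCategory.standard
open CategoryTheory Limits CochainComplex HomComplex IsLocalRing
open scoped Pointwise

namespace Groth.Agent.KosEuler

open LenLib (lenZ)

variable {A : Type u} [CommRing A]

local notation "sgn" i => ((Int.negOnePow i : ℤˣ) : ℤ)

theorem lenZ_homology (C : CochainComplex (ModuleCat.{u} A) ℤ) (i j k : ℤ) (hij : i + 1 = j)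
    (hjk : j + 1 = k) :
    lenZ A (C.homology j) = lenZ A ((LinearMap.ker (C.d j k).hom) ⧸
      (LinearMap.range (C.d i j).hom).comap (LinearMap.ker (C.d j k).hom).subtype) := by
  have e := (C.homologyIsoSc' i j k (by simp; omega) (by simp; omega) ≪≫
    (C.sc' i j k).moduleCatHomologyIso).toLinearEquiv
  refine (LenLib.lenZ_congr e).trans (LenLib.lenZ_congr (Submodule.quotEquivOfEq _ _ ?_))
  ext z
  constructor
  · rintro ⟨w, rfl⟩; exact ⟨w, rfl⟩
  · rintro ⟨w, hw⟩; exact ⟨w, Subtype.ext hw⟩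

/-- The differential modulo the filtration step. -/
noncomputable def dbar (C : CochainComplex (ModuleCat.{u} A) ℤ) (G : ∀ i, Submodule A (C.X i))
    (hd : ∀ i (z : C.X i), z ∈ G i → (C.d i (i + 1)).hom z ∈ G (i + 1)) (i : ℤ) :
    (C.X i ⧸ G i) →ₗ[A] (C.X (i + 1) ⧸ G (i + 1)) :=
  Submodule.mapQ _ _ (C.d i (i + 1)).hom (hd i)

theorem lenZ_sub_add {N : Type*} [AddCommGroup N] [Module A N] (S : Submodule A N)
    (h : Module.length A N ≠ ⊤) : lenZ A N = lenZ A S + lenZ A (N ⧸ S) := by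
  have := LenLib.lenZ_eq_range_add (LinearMap.exact_subtype_mkQ S) h
  rwa [LenLib.lenZ_of_injective (Submodule.injective_subtype _),
    LenLib.lenZ_of_surjective (Submodule.mkQ_surjective _)] at this

theorem lenZ_quot_step {C : CochainComplex (ModuleCat.{u} A) ℤ} {G : ∀ i, Submodule A (C.X i)}
    (hd : ∀ i (z : C.X i), z ∈ G i → (C.d i (i + 1)).hom z ∈ G (i + 1))
    (hac : ∀ i, ∀ z ∈ G (i + 1), (C.d (i + 1) (i + 1 + 1)).hom z = 0 →
      ∃ w ∈ G i, (C.d i (i + 1)).hom w = z)
    (hfin : ∀ i, Module.length A (C.X i ⧸ G i) ≠ ⊤) (k : ℤ) :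
    lenZ A (C.X (k + 1) ⧸ G (k + 1)) = lenZ A (C.homology (k + 1)) +
      (lenZ A (LinearMap.range (dbar C G hd (k + 1))) + lenZ A (LinearMap.range (dbar C G hd k))) := by
  let Z := LinearMap.ker (C.d (k + 1) (k + 1 + 1)).hom
  let σ : Z →ₗ[A] C.X (k + 1) ⧸ G (k + 1) := (G (k + 1)).mkQ.comp Z.subtype
  let R := LinearMap.range (dbar C G hd k)
  let N := LinearMap.ker (dbar C G hd (k + 1))
  have hσ : ∀ z, σ z ∈ N := fun z => by
    change Submodule.Quotient.mk ((C.d (k + 1) (k + 1 + 1)).hom z.1) = 0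
    rw [z.2, Submodule.Quotient.mk_zero]
  have hRN : R ≤ N := by
    rintro _ ⟨q, rfl⟩
    obtain ⟨w, rfl⟩ := Submodule.mkQ_surjective _ q
    change Submodule.Quotient.mk ((C.d (k + 1) (k + 1 + 1)).hom ((C.d k (k + 1)).hom w)) = 0
    have h : (C.d (k + 1) (k + 1 + 1)).hom ((C.d k (k + 1)).hom w) = 0 :=
      ConcreteCategory.congr_hom (C.d_comp_d k (k + 1) (k + 1 + 1)) w
    rw [h, Submodule.Quotient.mk_zero]
  let π : Z →ₗ[A] N ⧸ R.comap N.subtype := (R.comap N.subtype).mkQ.comp (σ.codRestrict N hσ)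
  have hπ : Function.Surjective π := by
    intro q
    obtain ⟨⟨y, hy⟩, rfl⟩ := Submodule.mkQ_surjective _ q
    obtain ⟨w, rfl⟩ := Submodule.mkQ_surjective _ y
    have hw : (C.d (k + 1) (k + 1 + 1)).hom w ∈ G (k + 1 + 1) :=
      (Submodule.Quotient.mk_eq_zero _).1 hy
    obtain ⟨v, hv, e⟩ := hac (k + 1) _ hw
      (ConcreteCategory.congr_hom (C.d_comp_d (k + 1) (k + 1 + 1) (k + 1 + 1 + 1)) w)
    refine ⟨⟨w - v, by rw [LinearMap.mem_ker, map_sub, e, sub_self]⟩, congrArg Submodule.Quotient.mk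
      (Subtype.ext ((Submodule.Quotient.eq _).2 ?_))⟩
    simpa using neg_mem hv
  have hker : LinearMap.ker π = (LinearMap.range (C.d k (k + 1)).hom).comap Z.subtype := by
    ext z
    constructor
    · intro hz
      obtain ⟨q, hq⟩ := (Submodule.Quotient.mk_eq_zero _).1 hz
      obtain ⟨w, rfl⟩ := Submodule.mkQ_surjective _ q
      have h : (C.d k (k + 1)).hom w - z.1 ∈ G (k + 1) := (Submodule.Quotient.eq _).1 hq
      obtain ⟨v, hv, e⟩ := hac k _ h (by
        rw [map_sub, z.2, sub_zero]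
        exact ConcreteCategory.congr_hom (C.d_comp_d k (k + 1) (k + 1 + 1)) w)
      exact ⟨w - v, by rw [map_sub, e, sub_sub_cancel]; rfl⟩
    · rintro ⟨w, hw⟩
      exact (Submodule.Quotient.mk_eq_zero _).2
        ⟨Submodule.Quotient.mk w, congrArg Submodule.Quotient.mk hw⟩
  have e : lenZ A (C.homology (k + 1)) = lenZ A (N ⧸ R.comap N.subtype) := by
    rw [lenZ_homology C k (k + 1) (k + 1 + 1) rfl rfl]
    exact LenLib.lenZ_congr ((Submodule.quotEquivOfEq _ _ hker.symm).trans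
      (π.quotKerEquivOfSurjective hπ))
  have h1 := LenLib.lenZ_eq_range_add (LinearMap.exact_subtype_ker_map (dbar C G hd (k + 1))) (hfin _)
  rw [LenLib.lenZ_of_injective (Submodule.injective_subtype _)] at h1
  have h2 := lenZ_sub_add (R.comap N.subtype)
    (ne_top_of_le_ne_top (hfin (k + 1)) (Module.length_le_of_injective _ N.injective_subtype))
  have h3 : lenZ A (R.comap N.subtype) = lenZ A R :=
    LenLib.lenZ_congr (R := A) (Submodule.comapSubtypeEquivOfLe (q := N) (p := R) hRN)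
  rw [h3] at h2
  rw [h1, e]
  change lenZ A N + _ = _
  rw [h2]
  change lenZ A R + _ + _ = _ + (_ + lenZ A R)
  ring

theorem sum_quot_eq {C : CochainComplex (ModuleCat.{u} A) ℤ} {G : ∀ i, Submodule A (C.X i)}
    (hd : ∀ i (z : C.X i), z ∈ G i → (C.d i (i + 1)).hom z ∈ G (i + 1))
    (hac : ∀ i, ∀ z ∈ G (i + 1), (C.d (i + 1) (i + 1 + 1)).hom z = 0 →
      ∃ w ∈ G i, (C.d i (i + 1)).hom w = z)
    (hfin : ∀ i, Module.length A (C.X i ⧸ G i) ≠ ⊤) (a b : ℤ) (hab : a ≤ b + 1)
    (h0 : ∀ i, (b < i ∨ i < a) → Subsingleton (C.X i)) :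
    ∑ i ∈ Finset.Icc a b, (sgn i) * lenZ A (C.X i ⧸ G i) =
      ∑ i ∈ Finset.Icc a b, (sgn i) * lenZ A (C.homology i) := by
  let u : ℤ → ℤ := fun i => lenZ A (LinearMap.range (dbar C G hd i))
  have key : ∀ i, lenZ A (C.X i ⧸ G i) = lenZ A (C.homology i) + (u i + u (i - 1)) := by
    intro i
    obtain ⟨k, rfl⟩ : ∃ k, i = k + 1 := ⟨i - 1, by omega⟩
    rw [show k + 1 - 1 = k by omega]
    exact lenZ_quot_step hd hac hfin k
  have hu : ∀ i, (b < i + 1 ∨ i < a) → u i = 0 := by
    intro i hi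
    have : Subsingleton (LinearMap.range (dbar C G hd i)) := by
      refine subsingleton_of_forall_eq 0 ?_
      rintro ⟨_, q, rfl⟩
      rcases hi with hi | hi
      · have := h0 (i + 1) (Or.inl hi)
        have : Subsingleton (C.X (i + 1) ⧸ G (i + 1)) := (Submodule.mkQ_surjective _).subsingleton
        exact Subtype.ext (Subsingleton.elim _ _)
      · have := h0 i (Or.inr hi)
        have : Subsingleton (C.X i ⧸ G i) := (Submodule.mkQ_surjective _).subsingleton
        exact Subtype.ext ((congrArg _ (Subsingleton.elim q 0)).trans (map_zero _))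
    simp only [u, lenZ, Module.length_eq_zero, ENat.toNat_zero, Nat.cast_zero]
  simp only [key, mul_add, Finset.sum_add_distrib]
  rw [← Finset.sum_add_distrib (f := fun i : ℤ => (sgn i) * u i)]
  simp only [← mul_add]
  have := DRing.AltTrace.telescope u a b hab
  simp only [smul_eq_mul] at this
  rw [this, hu b (by omega), hu _ (by omega)]
  ring

/-! ### The Koszul complex -/

variable {a : Ideal A} {M : Type u} [AddCommGroup M] [Module A M]

theorem length_quot_CF {E : CochainComplex (ModuleCat.{u} A) ℤ} (x : A)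
    (G : ℕ → ∀ i, Submodule A (E.X i)) (n : ℕ) (i : ℤ) :
    Module.length A ((mappingCone (x • 𝟙 E)).X i ⧸ CF x E G n i) =
      Module.length A (E.X (i + 1) ⧸ G (n - 1) (i + 1)) + Module.length A (E.X i ⧸ G n i) := by
  let π : (mappingCone (x • 𝟙 E)).X i →ₗ[A] (E.X (i + 1) ⧸ G (n - 1) (i + 1)) × (E.X i ⧸ G n i) :=
    ((G (n - 1) (i + 1)).mkQ.comp (cp x E i)).prod ((G n i).mkQ.comp (cq x E i))
  have hπ : Function.Surjective π := by
    rintro ⟨p, q⟩
    obtain ⟨p, rfl⟩ := Submodule.mkQ_surjective _ p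
    obtain ⟨q, rfl⟩ := Submodule.mkQ_surjective _ q
    refine ⟨ci x E i p + cr x E i q, ?_⟩
    simp [π, cp_ci, cp_cr, cq_ci, cq_cr]
  have hker : LinearMap.ker π = CF x E G n i := by
    ext z
    simp [π, mem_CF, Submodule.Quotient.mk_eq_zero]
  rw [((Submodule.quotEquivOfEq _ _ hker.symm).trans (π.quotKerEquivOfSurjective hπ)).length_eq,
    Module.length_prod]

/-- The length of a term of the quotient complex. -/
noncomputable def ql (a : Ideal A) (l : List A) (M : Type u) [AddCommGroup M] [Module A M] (n : ℕ)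
    (i : ℤ) : ℕ∞ :=
  Module.length A ((K l M).X i ⧸ F a M l n i)

theorem ql_cons (x : A) (l : List A) (n : ℕ) (i : ℤ) :
    ql a (x :: l) M n i = ql a l M (n - 1) (i + 1) + ql a l M n i :=
  length_quot_CF x (fun n i => F a M l n i) n i

theorem length_quot_pow_congr {N N' : Type u} [AddCommGroup N] [Module A N] [AddCommGroup N']
    [Module A N'] (e : N ≃ₗ[A] N') (J : Ideal A) :
    Module.length A (N ⧸ (J • ⊤ : Submodule A N)) = Module.length A (N' ⧸ (J • ⊤ : Submodule A N')) :=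
  (Submodule.Quotient.equiv _ _ e (by
    rw [Submodule.map_smul'', Submodule.map_top]
    exact congrArg _ (LinearMap.range_eq_top.2 e.surjective))).length_eq

theorem ql_nil_zero (n : ℕ) :
    ql a ([] : List A) M n 0 = Module.length A (M ⧸ (a ^ n • ⊤ : Submodule A M)) :=
  length_quot_pow_congr (HomologicalComplex.singleObjXSelf (ComplexShape.up ℤ) 0
    (ModuleCat.of A M)).toLinearEquiv (a ^ n)

theorem ql_eq_zero (l : List A) (n : ℕ) (i : ℤ) (h : 0 < i ∨ i < -(l.length : ℤ)) :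
    ql a l M n i = 0 := by
  have := ModuleCat.subsingleton_of_isZero (isZero_K_X l M i h)
  exact Module.length_eq_zero_iff.2 (Submodule.mkQ_surjective _).subsingleton

theorem ql_ne_top (hs : ∀ n : ℕ, Module.length A (M ⧸ (a ^ n • ⊤ : Submodule A M)) ≠ ⊤) :
    ∀ (l : List A) (n : ℕ) (i : ℤ), ql a l M n i ≠ ⊤
  | [], n, i => by
    by_cases h : i = 0
    · rw [h, ql_nil_zero]; exact hs n
    · rw [ql_eq_zero [] n i (by simp; omega)]; exact ENat.zero_ne_top
  | x :: l, n, i => by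
    rw [ql_cons]
    exact WithTop.add_ne_top.2 ⟨ql_ne_top hs l _ _, ql_ne_top hs l _ _⟩

/-- Iterated backward difference. -/
def bd : ℕ → (ℕ → ℤ) → ℕ → ℤ
  | 0, s, n => s n
  | k + 1, s, n => bd k s n - bd k s (n - 1)

theorem sum_ql (hs : ∀ n : ℕ, Module.length A (M ⧸ (a ^ n • ⊤ : Submodule A M)) ≠ ⊤) :
    ∀ (l : List A) (n : ℕ) (lo hi : ℤ), lo ≤ -(l.length : ℤ) → 0 ≤ hi →
      ∑ i ∈ Finset.Icc lo hi, (sgn i) * ((ql a l M n i).toNat : ℤ) =
        bd l.length (fun n => lenZ A (M ⧸ (a ^ n • ⊤ : Submodule A M))) n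
  | [], n, lo, hi, h₁, h₂ => by
    simp only [List.length_nil, Nat.cast_zero, neg_zero] at h₁
    rw [Finset.sum_eq_single 0 (fun i _ hi => by rw [ql_eq_zero [] n i (by simp; omega)]; simp)
      (fun h => absurd (Finset.mem_Icc.2 ⟨h₁, h₂⟩) h), Int.negOnePow_zero, Units.val_one, one_mul,
      ql_nil_zero]
    rfl
  | x :: l, n, lo, hi, h₁, h₂ => by
    simp only [List.length_cons, Nat.cast_succ] at h₁ ⊢
    let v : ℤ → ℤ := fun i => ((ql a l M (n - 1) (i + 1)).toNat : ℤ)
    let w : ℤ → ℤ := fun i => ((ql a l M (n - 1) i).toNat : ℤ)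
    have e0 : ∀ i, ((ql a (x :: l) M n i).toNat : ℤ) = v i + ((ql a l M n i).toNat : ℤ) := fun i => by
      rw [ql_cons, ENat.toNat_add (ql_ne_top hs l _ _) (ql_ne_top hs l _ _)]
      push_cast; rfl
    have e1 : ∀ i, v (i - 1) = w i := fun i => by simp only [v, w, sub_add_cancel]
    have hv : ∀ i, (0 < i + 1 ∨ i + 1 < -(l.length : ℤ)) → v i = 0 := fun i hi => by
      simp only [v]; rw [ql_eq_zero l _ _ hi]; simp
    have t := DRing.AltTrace.telescope v lo hi (by omega)
    simp only [smul_eq_mul, mul_add, Finset.sum_add_distrib] at t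
    rw [hv hi (by omega), hv (lo - 1) (by omega)] at t
    simp only [e1, mul_zero, sub_zero] at t
    simp only [e0, mul_add, Finset.sum_add_distrib]
    rw [bd, sum_ql hs l n lo hi (by omega) h₂]
    have := sum_ql hs l (n - 1) lo hi (by omega) h₂
    change ∑ i ∈ Finset.Icc lo hi, (sgn i) * w i = _ at this
    linarith

/-- The iterated difference of the Samuel function is eventually the Euler characteristic. -/
theorem exists_bd_eq [IsNoetherianRing A] [Module.Finite A M] (l : List A)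
    (hs : ∀ n : ℕ, Module.length A (M ⧸ (Ideal.ofList l ^ n • ⊤ : Submodule A M)) ≠ ⊤) :
    ∃ N : ℕ, ∀ n, N ≤ n →
      bd l.length (fun n => lenZ A (M ⧸ (Ideal.ofList l ^ n • ⊤ : Submodule A M))) n = χ l M := by
  choose N hN using exists_acyclic (M := M) l
  let T := (Finset.Icc (-(l.length : ℤ) - 2) 2).sup N
  refine ⟨T, fun n hn => ?_⟩
  rw [← sum_ql hs l n (-(l.length : ℤ) - 1) 1 (by omega) (by norm_num),
    χ_eq_sum l M (a := -(l.length : ℤ) - 1) (b := 1) (by omega) (by norm_num)]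
  refine sum_quot_eq (C := K l M) (G := fun i => F (Ideal.ofList l) M l n i)
    (fun i z hz => d_mem_F l (fun r hr => Ideal.subset_span hr) n i z hz) (fun i z hz hdz => ?_)
    (ql_ne_top hs l n) _ _ (by omega)
    (fun i hi => ModuleCat.subsingleton_of_isZero (isZero_K_X l M i (by omega)))
  by_cases hi : i ∈ Finset.Icc (-(l.length : ℤ) - 2) 2
  · exact hN i n ((Finset.le_sup hi).trans hn) z hz hdz
  · have := ModuleCat.subsingleton_of_isZero (isZero_K_X l M (i + 1) (by
      simp only [Finset.mem_Icc] at hi; omega))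
    exact ⟨0, zero_mem _, Subsingleton.elim _ _⟩

end Groth.Agent.KosEuler
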